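import Mathlib

/-!
# Elementary lemmas for groups with large prime dividing mixed subgroups

Orbit sizes of a `p`-element acting by conjugation, products of Sylow subgroups in two-prime
groups, and pairs of commuting involutions acting on an abelian group of odd order.
-/

set_option autoImplicit false

namespace Cfsg.Agent.MixedSubgroups

open Subgroup

variable {G : Type*} [Group G]

theorem commute_pow_of_coprime {σ u : G} {n i : ℕ} (hσ : σ ^ n = 1) (hc : Nat.Coprime i n)
    (h : Commute (σ ^ i) u) : Commute σ u := by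
  obtain ⟨m, hm⟩ := exists_pow_eq_self_of_coprime
    (Nat.Coprime.coprime_dvd_right (orderOf_dvd_of_pow_eq_one hσ) hc)
  rw [← hm]
  exact h.pow_left m

/-- The first `p` conjugates of an element moved by a `p`-element are distinct. -/
theorem conj_pow_injective {p k : ℕ} (hp : p.Prime) {σ u : G} (hσ : σ ^ (p ^ k) = 1)
    (hne : ¬ Commute σ u) :
    Function.Injective fun i : Fin p => σ ^ (i : ℕ) * u * (σ ^ (i : ℕ))⁻¹ := by
  have key : ∀ i j : ℕ, i < j → j < p → σ ^ i * u * (σ ^ i)⁻¹ ≠ σ ^ j * u * (σ ^ j)⁻¹ := by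
    intro i j hij hj e
    obtain ⟨d, rfl⟩ := Nat.exists_eq_add_of_lt hij
    refine hne (commute_pow_of_coprime (i := d + 1) hσ ?_ ?_)
    · exact ((Nat.Prime.coprime_iff_not_dvd hp).2 fun hd =>
        absurd (Nat.le_of_dvd (by omega) hd) (by omega)).symm.pow_right k
    · rw [add_assoc, pow_add] at e
      have e' : u = σ ^ (d + 1) * u * (σ ^ (d + 1))⁻¹ := by
        calc u = (σ ^ i)⁻¹ * (σ ^ i * u * (σ ^ i)⁻¹) * σ ^ i := by group
          _ = (σ ^ i)⁻¹ * (σ ^ i * σ ^ (d + 1) * u * (σ ^ i * σ ^ (d + 1))⁻¹) * σ ^ i := by rw [e]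
          _ = _ := by group
      exact (eq_mul_inv_iff_mul_eq.1 e').symm
  intro i j e
  rcases lt_trichotomy (i : ℕ) (j : ℕ) with h | h | h
  · exact absurd e (key i j h j.2)
  · exact Fin.ext h
  · exact absurd e.symm (key j i h i.2)

theorem conj_pow_mem {U : Subgroup G} {σ : G} (hN : σ ∈ normalizer (U : Set G)) (i : ℕ) {u : G}
    (hu : u ∈ U) : σ ^ i * u * (σ ^ i)⁻¹ ∈ U :=
  (mem_normalizer_iff.1 (pow_mem hN i) u).1 hu

/-- Conjugates of a moved point inside a finite subgroup, avoiding prescribed points. -/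
theorem add_card_le {p k : ℕ} (hp : p.Prime) {U : Subgroup G} [Finite U] {σ u : G}
    (hσ : σ ^ (p ^ k) = 1) (hN : σ ∈ normalizer (U : Set G)) (hu : u ∈ U) (hne : ¬ Commute σ u)
    (F : Finset U) (hF : ∀ v ∈ F, Commute σ (v : G)) : p + F.card ≤ Nat.card U := by
  classical
  haveI := Fintype.ofFinite U
  rw [Nat.card_eq_fintype_card]
  set f : Fin p → U := fun i => ⟨σ ^ (i : ℕ) * u * (σ ^ (i : ℕ))⁻¹, conj_pow_mem hN i hu⟩
  have hf : Function.Injective f := fun i j e =>
    conj_pow_injective hp hσ hne (congrArg Subtype.val e)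
  have hd : Disjoint (Finset.univ.image f) F := by
    rw [Finset.disjoint_left]
    intro v hv hvF
    obtain ⟨i, -, rfl⟩ := Finset.mem_image.1 hv
    have h1 : Commute (σ ^ (i : ℕ)) (σ ^ (i : ℕ) * u * (σ ^ (i : ℕ))⁻¹) :=
      ((hF _ hvF).pow_left _)
    refine hne ?_
    have h2 : u = σ ^ (i : ℕ) * u * (σ ^ (i : ℕ))⁻¹ := by
      have e := h1.eq
      have e2 : σ ^ (i : ℕ) * u * (σ ^ (i : ℕ))⁻¹ * σ ^ (i : ℕ) = σ ^ (i : ℕ) * u := by group
      rw [e2] at e
      exact (mul_left_cancel e).symm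
    have h3 := hF _ hvF
    simp only [f] at h3
    rwa [← h2] at h3
  calc p + F.card = (Finset.univ.image f ∪ F).card := by
        rw [Finset.card_union_of_disjoint hd, Finset.card_image_of_injective _ hf]; simp
    _ ≤ _ := Finset.card_le_univ _

theorem le_card_sub_one {p k : ℕ} (hp : p.Prime) {U : Subgroup G} [Finite U] {σ u : G}
    (hσ : σ ^ (p ^ k) = 1) (hN : σ ∈ normalizer (U : Set G)) (hu : u ∈ U) (hne : ¬ Commute σ u) :
    p ≤ Nat.card U - 1 := by
  have := add_card_le hp hσ hN hu hne {1} (by simp)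
  simp at this
  omega

/-- A small enough subgroup is centralised as soon as one nontrivial element is fixed. -/
theorem commute_of_fixed {p k : ℕ} (hp : p.Prime) {U : Subgroup G} [Finite U] {σ v : G}
    (hσ : σ ^ (p ^ k) = 1) (hN : σ ∈ normalizer (U : Set G)) (hcard : Nat.card U ≤ p + 1)
    (hv : v ∈ U) (hv1 : v ≠ 1) (hfix : Commute σ v) {u : G} (hu : u ∈ U) : Commute σ u := by
  classical
  by_contra hne
  have := add_card_le hp hσ hN hu hne {1, (⟨v, hv⟩ : U)} (by
    intro w hw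
    rcases Finset.mem_insert.1 hw with rfl | hw
    · simp
    · rw [Finset.mem_singleton.1 hw]; exact hfix)
  rw [Finset.card_pair (fun e => hv1 (congrArg Subtype.val e).symm)] at this
  omega

/-- When `|U| = p + 1`, a `p`-element moving a point is transitive on `U ∖ {1}`. -/
theorem exists_conj_eq {p k : ℕ} (hp : p.Prime) {U : Subgroup G} [Finite U] {σ u v : G}
    (hσ : σ ^ (p ^ k) = 1) (hN : σ ∈ normalizer (U : Set G)) (hcard : Nat.card U = p + 1)
    (hu : u ∈ U) (hne : ¬ Commute σ u) (hv : v ∈ U) (hv1 : v ≠ 1) :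
    ∃ i : ℕ, σ ^ i * u * (σ ^ i)⁻¹ = v := by
  classical
  haveI := Fintype.ofFinite U
  by_contra h
  push Not at h
  set f : Fin p → U := fun i => ⟨σ ^ (i : ℕ) * u * (σ ^ (i : ℕ))⁻¹, conj_pow_mem hN i hu⟩
  have hf : Function.Injective f := fun i j e =>
    conj_pow_injective hp hσ hne (congrArg Subtype.val e)
  have hu1 : u ≠ 1 := fun e => hne (e ▸ Commute.one_right σ)
  have hd : Disjoint (Finset.univ.image f) {1, (⟨v, hv⟩ : U)} := by
    rw [Finset.disjoint_left]
    intro w hw hw'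
    obtain ⟨i, -, rfl⟩ := Finset.mem_image.1 hw
    rcases Finset.mem_insert.1 hw' with e | e
    · have e' : σ ^ (i : ℕ) * u * (σ ^ (i : ℕ))⁻¹ = 1 := congrArg Subtype.val e
      exact hu1 (conj_eq_one_iff.1 e')
    · exact h i (congrArg Subtype.val (Finset.mem_singleton.1 e))
  have := Finset.card_le_univ (Finset.univ.image f ∪ {1, (⟨v, hv⟩ : U)})
  rw [Finset.card_union_of_disjoint hd, Finset.card_image_of_injective _ hf,
    Finset.card_pair (fun e => hv1 (congrArg Subtype.val e).symm), ← Nat.card_eq_fintype_card] at this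
  rw [Finset.card_univ, Fintype.card_fin, hcard] at this
  omega

/-- A subgroup whose order is at most a product of two coprime orders of its subgroups lies in
every subgroup containing both. -/
theorem le_of_coprime_parts [Finite G] {H M A B : Subgroup G} (hAH : A ≤ H) (hBH : B ≤ H)
    (hco : Nat.Coprime (Nat.card A) (Nat.card B)) (hH : Nat.card H ≤ Nat.card A * Nat.card B)
    (hAM : A ≤ M) (hBM : B ≤ M) : H ≤ M := by
  have h1 : Nat.card A * Nat.card B ∣ Nat.card (A ⊔ B : Subgroup G) :=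
    hco.mul_dvd_of_dvd_of_dvd (card_dvd_of_le le_sup_left) (card_dvd_of_le le_sup_right)
  have h2 : A ⊔ B = H := eq_of_le_of_card_ge (sup_le hAH hBH)
    (hH.trans (Nat.le_of_dvd Nat.card_pos h1))
  exact h2 ▸ sup_le hAM hBM

/-- The order of a group with at most two prime divisors. -/
theorem card_eq_sylow_mul [Finite G] {p q : ℕ} [Fact p.Prime] [Fact q.Prime] (hpq : p ≠ q)
    (h : ∀ r : ℕ, r.Prime → r ∣ Nat.card G → r = p ∨ r = q) (P : Sylow p G) (Q : Sylow q G) :
    Nat.card G = Nat.card P * Nat.card Q := by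
  have hco : Nat.Coprime (Nat.card P) (Nat.card Q) :=
    IsPGroup.coprime_card_of_ne p q hpq (P : Subgroup G) (Q : Subgroup G) P.2 Q.2
  apply Nat.dvd_antisymm ?_
    (hco.mul_dvd_of_dvd_of_dvd (card_subgroup_dvd_card _) (card_subgroup_dvd_card _))
  rw [← Nat.factorization_le_iff_dvd Nat.card_pos.ne'
    (Nat.mul_ne_zero Nat.card_pos.ne' Nat.card_pos.ne'), P.card_eq_multiplicity,
    Q.card_eq_multiplicity]
  intro r
  rw [Nat.factorization_mul (pow_ne_zero _ (Fact.out : p.Prime).ne_zero)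
    (pow_ne_zero _ (Fact.out : q.Prime).ne_zero),
    Nat.Prime.factorization_pow Fact.out, Nat.Prime.factorization_pow Fact.out]
  by_cases hr : r ∈ (Nat.card G).factorization.support
  · rw [Nat.support_factorization] at hr
    rcases h r (Nat.prime_of_mem_primeFactors hr) (Nat.dvd_of_mem_primeFactors hr) with rfl | rfl
    · simp [hpq]
    · simp [hpq.symm]
  · rw [Finsupp.notMem_support_iff.1 hr]; exact Nat.zero_le _

theorem isPGroup_of_unique_prime {p : ℕ} (H : Subgroup G) [Finite H] [Fact p.Prime]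
    (h : ∀ r : ℕ, r.Prime → r ∣ Nat.card H → r = p) : IsPGroup p H := by
  refine IsPGroup.of_card (n := (Nat.card H).factorization p) ?_
  refine Nat.eq_of_factorization_eq Nat.card_pos.ne'
    (pow_ne_zero _ (Fact.out : p.Prime).ne_zero) fun r => ?_
  rw [Nat.Prime.factorization_pow Fact.out]
  by_cases hr : r ∈ (Nat.card H).factorization.support
  · rw [Nat.support_factorization] at hr
    rw [h r (Nat.prime_of_mem_primeFactors hr) (Nat.dvd_of_mem_primeFactors hr)]
    simp
  · rw [Finsupp.notMem_support_iff.1 hr]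
    rcases eq_or_ne r p with rfl | hne
    · simp [Finsupp.notMem_support_iff.1 hr]
    · simp [hne.symm]

theorem isPGroup_zpowers {p k : ℕ} [Fact p.Prime] {x : G} (h : x ^ (p ^ k) = 1) :
    IsPGroup p (zpowers x) := by
  obtain ⟨j, -, hj⟩ := (Nat.dvd_prime_pow (Fact.out : p.Prime)).1 (orderOf_dvd_of_pow_eq_one h)
  exact IsPGroup.of_card (n := j) (by rw [Nat.card_zpowers, hj])

theorem mem_normalizer_zpowers_of_inverts {t x : G} (h : t * x * t⁻¹ = x⁻¹) :
    t ∈ normalizer (zpowers x : Set G) := by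
  have e : ∀ i : ℤ, t * x ^ i * t⁻¹ = x ^ (-i) := fun i => by
    rw [← conj_zpow, h, inv_zpow', ]
  rw [mem_normalizer_iff]
  refine fun y => ⟨?_, ?_⟩
  · intro hy
    obtain ⟨i, rfl⟩ := mem_zpowers_iff.1 hy
    exact e i ▸ zpow_mem (mem_zpowers x) _
  · intro hy
    obtain ⟨i, hi⟩ := mem_zpowers_iff.1 hy
    have h2 := e (-i)
    rw [neg_neg, hi] at h2
    have : y = x ^ (-i) := mul_left_cancel (mul_right_cancel h2.symm)
    exact this ▸ zpow_mem (mem_zpowers x) _

theorem eq_one_of_sq_of_odd {H : Subgroup G} (hodd : Odd (Nat.card H)) {x : G} (hx : x ∈ H)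
    (h : x * x = 1) : x = 1 := by
  have h1 : orderOf x ∣ Nat.card H := Subgroup.orderOf_dvd_natCard _ hx
  have h2 : orderOf x ∣ 2 := orderOf_dvd_of_pow_eq_one (by rwa [pow_two])
  have hc : Nat.Coprime 2 (Nat.card H) := Nat.coprime_two_left.2 hodd
  exact orderOf_eq_one_iff.1 (Nat.eq_one_of_dvd_coprimes hc h2 h1)

theorem commute_of_conj_eq {v y : G} (h : v * y * v⁻¹ = y) : Commute v y :=
  mul_inv_eq_iff_eq_mul.1 h

/-- An involution without fixed points on an abelian subgroup inverts it. -/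
theorem conj_eq_inv_of_fpf {P : Subgroup G} (hab : ∀ x ∈ P, ∀ y ∈ P, Commute x y) {v : G}
    (hv : v * v = 1) (hN : v ∈ normalizer (P : Set G))
    (hfpf : ∀ y ∈ P, Commute v y → y = 1) {x : G} (hx : x ∈ P) : v * x * v⁻¹ = x⁻¹ := by
  have hy : v * x * v⁻¹ ∈ P := (mem_normalizer_iff.1 hN x).1 hx
  have hv' : v⁻¹ = v := inv_eq_of_mul_eq_one_right hv
  have h1 : x * (v * x * v⁻¹) = 1 := by
    refine hfpf _ (mul_mem hx hy) (commute_of_conj_eq ?_)
    calc v * (x * (v * x * v⁻¹)) * v⁻¹ = (v * x * v⁻¹) * ((v * v) * x * (v * v)⁻¹) := by group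
      _ = (v * x * v⁻¹) * x := by rw [hv]; group
      _ = x * (v * x * v⁻¹) := (hab x hx _ hy).symm.eq
  exact eq_inv_of_mul_eq_one_right h1

/-- Two commuting involutions: an abelian group of odd order is generated by the three
centralisers. -/
theorem le_of_commuting_pair [Finite G] {P S : Subgroup G} (hodd : Odd (Nat.card P))
    (hab : ∀ x ∈ P, ∀ y ∈ P, Commute x y) {v w : G}
    (hv : v * v = 1) (hw : w * w = 1) (hvw : Commute v w)
    (hvN : v ∈ normalizer (P : Set G)) (hwN : w ∈ normalizer (P : Set G))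
    (h1 : ∀ y ∈ P, Commute v y → y ∈ S) (h2 : ∀ y ∈ P, Commute w y → y ∈ S)
    (h3 : ∀ y ∈ P, Commute (v * w) y → y ∈ S) : P ≤ S := by
  intro x hx
  set f := MulAut.conj v
  set g := MulAut.conj w
  have hfP : ∀ y ∈ P, f y ∈ P := fun y hy => (mem_normalizer_iff.1 hvN y).1 hy
  have hgP : ∀ y ∈ P, g y ∈ P := fun y hy => (mem_normalizer_iff.1 hwN y).1 hy
  have hff : ∀ y, f (f y) = y := fun y => by
    rw [← MulAut.mul_apply, ← map_mul, hv, map_one, MulAut.one_apply]
  have hgg : ∀ y, g (g y) = y := fun y => by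
    rw [← MulAut.mul_apply, ← map_mul, hw, map_one, MulAut.one_apply]
  have hfg : ∀ y, f (g y) = g (f y) := fun y => by
    rw [← MulAut.mul_apply, ← map_mul, hvw.eq, map_mul, MulAut.mul_apply]
  -- split off the part fixed by an automorphism of order two
  have split : ∀ (φ : MulAut G), (∀ y ∈ P, φ y ∈ P) → (∀ y, φ (φ y) = y) → ∀ y ∈ P,
      φ (y * φ y) = y * φ y ∧ φ (y * (φ y)⁻¹) = (y * (φ y)⁻¹)⁻¹ ∧
        (y * φ y) * (y * (φ y)⁻¹) = y * y := by
    intro φ hφ hφφ y hy
    have c := hab y hy _ (hφ y hy)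
    refine ⟨?_, ?_, ?_⟩
    · rw [map_mul, hφφ]; exact c.symm.eq
    · rw [map_mul, map_inv, hφφ, mul_inv_rev, inv_inv]
    · calc y * φ y * (y * (φ y)⁻¹) = y * (φ y * y) * (φ y)⁻¹ := by group
        _ = y * (y * φ y) * (φ y)⁻¹ := by rw [c.eq]
        _ = y * y := by group
  obtain ⟨fa, fb, eab⟩ := split f hfP hff x hx
  set a := x * f x
  set b := x * (f x)⁻¹
  have haP : a ∈ P := mul_mem hx (hfP x hx)
  have hbP : b ∈ P := mul_mem hx (inv_mem (hfP x hx))
  obtain ⟨gc, gd, ecd⟩ := split g hgP hgg b hbP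
  set c := b * g b
  set d := b * (g b)⁻¹
  have hdP : d ∈ P := mul_mem hbP (inv_mem (hgP b hbP))
  have haS : a ∈ S := h1 a haP (commute_of_conj_eq fa)
  have hcS : c ∈ S := h2 c (mul_mem hbP (hgP b hbP)) (commute_of_conj_eq gc)
  have hdS : d ∈ S := by
    refine h3 d hdP (commute_of_conj_eq ?_)
    have e : (v * w) * d * (v * w)⁻¹ = f (g d) := by
      rw [← MulAut.mul_apply, ← map_mul]; rfl
    rw [e, gd, map_inv]
    have e2 : f d = d⁻¹ := by
      simp only [d, map_mul, map_inv, hfg, fb, inv_inv, mul_inv_rev]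
      exact ((hab b hbP _ (hgP b hbP)).inv_left).eq
    rw [e2, inv_inv]
  have h4 : x ^ 4 ∈ S := by
    have e : x ^ 4 = (a * a) * (c * d) := by
      rw [ecd]
      calc x ^ 4 = (x * x) * (x * x) := by simp only [pow_succ, pow_zero, one_mul, mul_assoc]
        _ = (a * b) * (a * b) := by rw [eab]
        _ = a * (b * a) * b := by group
        _ = a * (a * b) * b := by rw [(hab b hbP a haP).eq]
        _ = _ := by group
    rw [e]
    exact mul_mem (mul_mem haS haS) (mul_mem hcS hdS)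
  obtain ⟨m, hm⟩ := exists_pow_eq_self_of_coprime (n := 4) (x := x) (by
    refine Nat.Coprime.coprime_dvd_right (Subgroup.orderOf_dvd_natCard _ hx) ?_
    show Nat.Coprime (2 ^ 2) _
    exact (Nat.coprime_two_left.2 hodd).pow_left 2)
  exact hm ▸ pow_mem h4 m

end Cfsg.Agent.MixedSubgroups
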