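import Cfsg.Agent.Lib.MixedSubgroups.Setup

/-!
# Case I: a nontrivial `p`-element centralises a Sylow 2-subgroup

Its centraliser is strongly embedded, which contradicts the structure of `N(P)`.
-/

set_option autoImplicit false

namespace Cfsg.Agent.MixedSubgroups

open Subgroup
open scoped Pointwise

variable {p : ℕ} {G : Type*} [Group G] [Finite G]

namespace Config

variable (hc : Config p G)
include hc

/-- No nontrivial `p`-element centralises a Sylow 2-subgroup. -/
theorem eq_one_of_centralizes_sylow_two {Q : Sylow 2 G} {z : G} (hz : PEl p z)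
    (hQz : ∀ u ∈ Q, Commute u z) : z = 1 := by
  by_contra hz1
  haveI : Fact p.Prime := ⟨hc.prime⟩
  haveI : Fact (Nat.Prime 2) := ⟨Nat.prime_two⟩
  obtain ⟨P, hzP⟩ := hc.exists_sylow_mem hz
  set M := centralizer ({z} : Set G)
  have hQM : (Q : Subgroup G) ≤ M := fun u hu => Invol.mem_centralizer_singleton_iff'.2 (hQz u hu)
  -- centralisers and the normaliser of `Q` lie in `M`
  have hCu : ∀ u ∈ Q, u ≠ 1 → centralizer ({u} : Set G) ≤ M := by
    intro u hu hu1
    refine hc.le_centralizer (hc.centralizer_ne_top hu1) (fun v hv => ?_) hz ?_ hQz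
    · exact Invol.mem_centralizer_singleton_iff'.2 (hc.two_group_comm Q.2 hv hu)
    · exact Invol.mem_centralizer_singleton_iff'.2 (hQz u hu).symm
  have hQne : (Q : Subgroup G) ≠ ⊥ := by
    obtain ⟨v, hv, hv1⟩ := hc.exists_ne_one Q
    exact fun e => hv1 (mem_bot.1 (e ▸ hv : v ∈ (⊥ : Subgroup G)))
  have hQtop : (Q : Subgroup G) ≠ ⊤ := by
    intro e
    obtain ⟨a, b, hab⟩ := hc.noncomm
    exact hab (hc.two_group_comm Q.2 (e ▸ mem_top a : a ∈ (Q : Subgroup G))
      (e ▸ mem_top b : b ∈ (Q : Subgroup G)))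
  have hNQ : normalizer ((Q : Subgroup G) : Set G) ≤ M := by
    exact hc.le_centralizer (hc.normalizer_ne_top hQne hQtop) le_normalizer hz
      (centralizer_le_normalizer _ (mem_centralizer_iff.2 fun y hy => (hQz y hy).eq)) hQz
  -- every involution of `M` is conjugate in `M` into `Q`
  have hinto : ∀ v ∈ M, v * v = 1 → ∃ m ∈ M, m⁻¹ * v * m ∈ Q := by
    intro v hv hvv
    have hV : IsPGroup 2 ((zpowers v).subgroupOf M) :=
      (isPGroup_zpowers (k := 1) (by rw [pow_one, pow_two, hvv])).of_equiv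
        (subgroupOfEquivOfLe (zpowers_le.2 hv)).symm
    obtain ⟨R, hR⟩ := hV.exists_le_sylow
    obtain ⟨m, hm⟩ := MulAction.exists_smul_eq M R (Q.subtype hQM)
    refine ⟨(m : G)⁻¹, inv_mem m.2, ?_⟩
    have : m * ⟨v, hv⟩ * m⁻¹ ∈ Q.subtype hQM := by
      rw [← hm]
      exact ⟨⟨v, hv⟩, hR (mem_subgroupOf.2 (mem_zpowers v)), rfl⟩
    rw [inv_inv]
    exact this
  -- strong embedding
  have hSE : ∀ v g : G, v ∈ M → v * v = 1 → v ≠ 1 → g * v * g⁻¹ ∈ M → g ∈ M := by
    intro v g hv hvv hv1 hgv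
    obtain ⟨m, hm, hmQ⟩ := hinto v hv hvv
    obtain ⟨n, hn, hnQ⟩ := hinto _ hgv (by
      calc g * v * g⁻¹ * (g * v * g⁻¹) = g * (v * v) * g⁻¹ := by group
        _ = 1 := by rw [hvv]; group)
    obtain ⟨σ, -, hσ, htr⟩ := hc.trans Q
    have h1 : m⁻¹ * v * m ≠ 1 := fun e => hv1 (by
      calc v = m * (m⁻¹ * v * m) * m⁻¹ := by group
        _ = 1 := by rw [e]; group)
    have h2 : n⁻¹ * (g * v * g⁻¹) * n ≠ 1 := fun e => hv1 (by
      calc v = g⁻¹ * n * (n⁻¹ * (g * v * g⁻¹) * n) * n⁻¹ * g := by group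
        _ = 1 := by rw [e]; group)
    obtain ⟨i, hi⟩ := htr _ hnQ h2 _ hmQ h1
    have hk : σ ^ i * n⁻¹ * g * m ∈ M := by
      refine hCu _ hmQ h1 (Invol.mem_centralizer_singleton_iff'.2 (commute_of_conj_eq ?_))
      calc _ = σ ^ i * (n⁻¹ * (g * v * g⁻¹) * n) * (σ ^ i)⁻¹ := by group
        _ = _ := hi
    have e : g = n * (σ ^ i)⁻¹ * (σ ^ i * n⁻¹ * g * m) * m⁻¹ := by group
    rw [e]
    exact mul_mem (mul_mem (mul_mem hn (inv_mem (pow_mem (hNQ hσ) i))) hk) (inv_mem hm)
  obtain ⟨T, -, hTN, hT, hTne, -, hfix⟩ := hc.exists_T P bot_le IsPGroup.of_bot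
  have hTM : ∀ t ∈ T, t ∈ M → t = 1 := by
    intro t ht htM
    by_contra ht1
    refine hz1 (hfix z hzP fun s hs => ?_)
    refine Invol.mem_centralizer_singleton_iff'.1 (hSE t s htM (hc.mul_self_of_two_group hT ht) ht1 ?_)
    rwa [(hc.two_group_comm hT hs ht).eq, mul_inv_cancel_right]
  obtain ⟨u, hu, hu1⟩ := T.bot_or_exists_ne_one.resolve_left hTne
  have huu := hc.mul_self_of_two_group hT hu
  have huN := hTN hu
  by_cases h4 : ∃ w ∈ T, w ≠ 1 ∧ w ≠ u
  · obtain ⟨w, hw, hw1, hwu⟩ := h4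
    -- every involution lies in a conjugate of `M`
    obtain ⟨Q1, hQ1⟩ := exists_sylow_two_mem huu
    obtain ⟨g, hg⟩ := MulAction.exists_smul_eq G Q Q1
    have hgQ : g⁻¹ * u * g ∈ Q := by
      rw [← hg] at hQ1
      obtain ⟨y, hy, hyu⟩ := hQ1
      have e : g * y * g⁻¹ = u := hyu
      rw [← e]
      simpa [mul_assoc] using hy
    set M1 := centralizer ({g * z * g⁻¹} : Set G)
    have hM1 : ∀ {y : G}, g⁻¹ * y * g ∈ M → y ∈ M1 := fun {y} hy => by
      refine Invol.mem_centralizer_singleton_iff'.2 ?_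
      have h := (Commute.conj_iff g).2 (Invol.mem_centralizer_singleton_iff'.1 hy)
      rwa [show g * (g⁻¹ * y * g) * g⁻¹ = y by group] at h
    have hCM1 : ∀ t ∈ T, t ≠ 1 → ∀ y : G, Commute t y → y ∈ M1 := by
      have hTM1 : ∀ t ∈ T, g⁻¹ * t * g ∈ M := by
        intro t ht
        refine hCu _ hgQ ?_ (Invol.mem_centralizer_singleton_iff'.2 ?_)
        · exact fun e => hu1 (by
            calc u = g * (g⁻¹ * u * g) * g⁻¹ := by group
              _ = 1 := by rw [e]; group)
        · have h := (Commute.conj_iff g⁻¹).2 (hc.two_group_comm hT ht hu)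
          rwa [inv_inv] at h
      intro t ht ht1 y hty
      refine hM1 (hSE (g⁻¹ * t * g) _ (hTM1 t ht) ?_ ?_ ?_)
      · calc _ = g⁻¹ * (t * t) * g := by group
          _ = 1 := by rw [hc.mul_self_of_two_group hT ht]; group
      · exact fun e => ht1 (by
          calc t = g * (g⁻¹ * t * g) * g⁻¹ := by group
            _ = 1 := by rw [e]; group)
      · have : g⁻¹ * y * g * (g⁻¹ * t * g) * (g⁻¹ * y * g)⁻¹ = g⁻¹ * t * g := by
          calc _ = g⁻¹ * (y * t) * y⁻¹ * g := by group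
            _ = g⁻¹ * (t * y) * y⁻¹ * g := by rw [hty.eq]
            _ = _ := by group
        rw [this]; exact hTM1 t ht
    have hPM1 : (P : Subgroup G) ≤ M1 :=
      le_of_commuting_pair (hc.odd_of_isPGroup P.2) (fun x hx y hy => hc.sylow_comm P hx hy) huu
        (hc.mul_self_of_two_group hT hw) (hc.two_group_comm hT hu hw) huN (hTN hw)
        (fun y _ h => hCM1 u hu hu1 y h) (fun y _ h => hCM1 w hw hw1 y h)
        (fun y _ h => hCM1 (u * w) (mul_mem hu hw) (fun e => hwu (by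
          rw [← inv_eq_of_mul_eq_one_right e, inv_eq_of_mul_eq_one_right huu])) y h)
    set z1 := g * z * g⁻¹
    have hz1P : z1 ∈ P := by
      obtain ⟨k, hk⟩ := hz.conj g
      have hle : zpowers z1 ≤ normalizer ((P : Subgroup G) : Set G) :=
        zpowers_le.2 (centralizer_le_normalizer _ (mem_centralizer_iff.2 fun y hy =>
          (Invol.mem_centralizer_singleton_iff'.1 (hPM1 hy)).eq))
      have hsup : IsPGroup p ((P : Subgroup G) ⊔ zpowers z1 : Subgroup G) :=
        P.2.to_sup_of_normal_left' (isPGroup_zpowers hk) hle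
      have e := P.is_maximal' hsup le_sup_left
      show z1 ∈ (P : Subgroup G)
      rw [← e]
      exact mem_sup_right (mem_zpowers z1)
    have := hfix z1 hz1P fun t ht => by
      rcases eq_or_ne t 1 with rfl | ht1
      · exact Commute.one_left _
      · exact Invol.mem_centralizer_singleton_iff'.1 (hCM1 t ht ht1 t (Commute.refl t))
    exact hz1 (by
      calc z = g⁻¹ * z1 * g := by simp only [z1]; group
        _ = 1 := by rw [this]; group)
  · push Not at h4
    have hinv : ∀ x ∈ P, u * x * u⁻¹ = x⁻¹ := fun x hx =>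
      conj_eq_inv_of_fpf (fun a ha b hb => hc.sylow_comm P ha hb) huu huN
        (fun y hy hcy => hfix y hy fun t ht => by
          rcases eq_or_ne t 1 with rfl | ht1
          · exact Commute.one_left _
          · rw [h4 t ht ht1]; exact hcy) hx
    obtain ⟨v, hv, hv1⟩ := hc.exists_ne_one Q
    refine hu1 (hTM u hu (hSE v u (hQM hv) (hc.mul_self_of_mem_two Q hv) hv1 ?_))
    refine Invol.mem_centralizer_singleton_iff'.2 ?_
    have h := (Commute.conj_iff u).2 ((hQz v hv).inv_right)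
    have e : u * z⁻¹ * u⁻¹ = z := by
      calc u * z⁻¹ * u⁻¹ = (u * z * u⁻¹)⁻¹ := by group
        _ = z := by rw [hinv z hzP, inv_inv]
    rwa [e] at h

end Config

end Cfsg.Agent.MixedSubgroups
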