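import Cfsg.Agent.Lib.MixedSubgroups.NonFree
import Cfsg.Agent.Lib.CyclicSylow.FreeCount

/-!
# Case II.2: no involution commutes with a nontrivial `p`-element; counting pairs of involutions
-/

set_option autoImplicit false

namespace Cfsg.Agent.MixedSubgroups

open Subgroup
open scoped Pointwise

variable {p : ℕ} {G : Type*} [Group G] [Finite G]

namespace Config

variable (hc : Config p G)
include hc

theorem centralizer_involution_eq {u : G} (huu : u * u = 1) (hu1 : u ≠ 1) {Q : Sylow 2 G}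
    (hu : u ∈ Q) : centralizer ({u} : Set G) = (Q : Subgroup G) := by
  haveI : Fact (Nat.Prime 2) := ⟨Nat.prime_two⟩
  set C := centralizer ({u} : Set G)
  have h2 : IsPGroup 2 C := by
    refine isPGroup_of_unique_prime _ fun r hr hrd => ?_
    refine (hc.primes C (hc.centralizer_ne_top hu1)
      (dvd_two_of_mem huu hu1 (Invol.mem_centralizer_singleton_iff'.2 (Commute.refl u))) r hr
      hrd).resolve_left ?_
    rintro rfl
    haveI : Fact r.Prime := ⟨hr⟩
    obtain ⟨τ, hτ⟩ := exists_prime_orderOf_dvd_card' r hrd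
    have hτ' : orderOf (τ : G) = r := by rwa [Subgroup.orderOf_coe]
    have h := hc.eq_one_of_commute_involution huu hu1 ⟨1, by rw [pow_one, ← hτ', pow_orderOf_eq_one]⟩
      (Invol.mem_centralizer_singleton_iff'.1 τ.2).symm
    rw [h, orderOf_one] at hτ'
    exact hr.ne_one hτ'.symm
  exact Q.is_maximal' h2 fun y hy =>
    Invol.mem_centralizer_singleton_iff'.2 (hc.two_group_comm Q.2 hy hu)

/-- `N(P)` has order `2|P|`; an involution in it inverts `P`. -/
theorem exists_inverting (P : Sylow p G) :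
    ∃ u : G, u * u = 1 ∧ u ≠ 1 ∧ (∀ x ∈ P, u * x * u⁻¹ = x⁻¹) ∧
      ∀ n ∈ normalizer ((P : Subgroup G) : Set G), ∃ y ∈ P, n = y ∨ n = y * u := by
  haveI : Fact p.Prime := ⟨hc.prime⟩
  obtain ⟨T, -, hTN, hT, hTne, hcard, -⟩ := hc.exists_T P bot_le IsPGroup.of_bot
  obtain ⟨u, hu, hu1⟩ := T.bot_or_exists_ne_one.resolve_left hTne
  have hPab : ∀ x ∈ P, ∀ y ∈ P, Commute x y := fun x hx y hy => hc.sylow_comm P hx hy
  have hinv : ∀ t ∈ T, t ≠ 1 → ∀ x ∈ P, t * x * t⁻¹ = x⁻¹ := fun t ht ht1 x hx =>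
    conj_eq_inv_of_fpf hPab (hc.mul_self_of_two_group hT ht) (hTN ht) (fun y hy hy' =>
      hc.eq_one_of_commute_involution (hc.mul_self_of_two_group hT ht) ht1 (pEl_of_mem P.2 hy) hy')
      hx
  have huu := hc.mul_self_of_two_group hT hu
  have honly : ∀ t ∈ T, t = 1 ∨ t = u := by
    intro t ht
    by_contra h
    push Not at h
    obtain ⟨x, hx, hx1⟩ := (P : Subgroup G).bot_or_exists_ne_one.resolve_left (hc.sylow_ne_bot P)
    have hxx : Commute (u * t) x := by
      refine commute_of_conj_eq ?_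
      calc u * t * x * (u * t)⁻¹ = u * (t * x * t⁻¹) * u⁻¹ := by group
        _ = u * x⁻¹ * u⁻¹ := by rw [hinv t ht h.1 x hx]
        _ = x := by rw [hinv u hu hu1 _ (inv_mem hx), inv_inv]
    have hut : u * t ≠ 1 := fun e => h.2 (by
      rw [← inv_eq_of_mul_eq_one_right e, inv_eq_of_mul_eq_one_right huu])
    exact hx1 (hc.eq_one_of_commute_involution (hc.mul_self_of_two_group hT (mul_mem hu ht)) hut
      (pEl_of_mem P.2 hx) hxx)
  refine ⟨u, huu, hu1, hinv u hu hu1, fun n hn => ?_⟩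
  have hPN : (P : Subgroup G) ≤ normalizer ((P : Subgroup G) : Set G) := le_normalizer
  have hn' : n ∈ (P : Subgroup G) ⊔ T :=
    le_of_coprime_parts hPN hTN (IsPGroup.coprime_card_of_ne (hp₂ := ⟨Nat.prime_two⟩) p 2 hc.odd _ _
      P.2 hT) hcard.le le_sup_left le_sup_right hn
  rw [sup_comm, Coprime.mem_sup_iff_of_le_normalizer' hTN] at hn'
  obtain ⟨y, hy, t, ht, rfl⟩ := hn'
  refine ⟨y, hy, ?_⟩
  rcases honly t ht with rfl | rfl
  · exact Or.inl (mul_one y)
  · exact Or.inr rfl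

/-- The centraliser of a nontrivial element of `P` is `P`. -/
theorem mem_of_commute {P : Sylow p G} {x y : G} (hx : x ∈ P) (hx1 : x ≠ 1) (hy : Commute y x) :
    y ∈ P := by
  haveI : Fact p.Prime := ⟨hc.prime⟩
  obtain ⟨u, huu, hu1, hinv, -⟩ := hc.exists_inverting P
  set N := normalizer (zpowers x : Set G)
  set C := centralizer ({x} : Set G)
  have hCN : C ≤ N := by
    intro z hz
    refine centralizer_le_normalizer _ (mem_centralizer_iff.2 fun a ha => ?_)
    obtain ⟨i, rfl⟩ := mem_zpowers_iff.1 ha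
    exact ((Invol.mem_centralizer_singleton_iff'.1 hz).zpow_right i).eq.symm
  have huN : u ∈ N := mem_normalizer_zpowers_of_inverts (hinv x hx)
  have hCp : IsPGroup p C := by
    refine isPGroup_of_unique_prime _ fun r hr hrd => ?_
    refine (hc.primes N (hc.normalizer_ne_top (zpowers_ne_bot.2 hx1) (hc.zpowers_ne_top x))
      (dvd_two_of_mem huu hu1 huN) r hr (hrd.trans (card_dvd_of_le hCN))).resolve_right ?_
    rintro rfl
    obtain ⟨t, htC, ht⟩ := Invol.exists_involution_mem (H := C) (even_iff_two_dvd.2 hrd)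
    exact hx1 (hc.eq_one_of_commute_involution (Invol.mul_self_of_orderOf_two ht)
      (Invol.ne_one_of_orderOf_two ht) (pEl_of_mem P.2 hx)
      (Invol.mem_centralizer_singleton_iff'.1 htC))
  have e := P.is_maximal' hCp fun z hz =>
    Invol.mem_centralizer_singleton_iff'.2 (hc.sylow_comm P hz hx)
  show y ∈ (P : Subgroup G)
  rw [← e]
  exact Invol.mem_centralizer_singleton_iff'.2 hy

theorem mul_pEl {u v : G} (huu : u * u = 1) (hu1 : u ≠ 1) (hvv : v * v = 1) (hne : ¬ Commute v u) :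
    PEl p (v * u) := by
  set d := v * u
  have hinv : u * d * u⁻¹ = d⁻¹ := Invol.conj_mul_eq_inv hvv huu
  have hd1 : d ≠ 1 := fun e => hne (by
    have : v = u⁻¹ := eq_inv_of_mul_eq_one_left e
    rw [this]; exact (Commute.refl u).inv_left)
  set N := normalizer (zpowers d : Set G)
  have hN : N ≠ ⊤ := hc.normalizer_ne_top (zpowers_ne_bot.2 hd1) (hc.zpowers_ne_top d)
  refine pEl_of_primes hc.prime fun r hr hrd => ?_
  refine (hc.primes N hN (dvd_two_of_mem huu hu1 (mem_normalizer_zpowers_of_inverts hinv)) r hr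
    (hrd.trans (Subgroup.orderOf_dvd_natCard _ (le_normalizer (mem_zpowers d))))).resolve_right ?_
  rintro rfl
  set t := d ^ (orderOf d / 2) with ht
  have hto : orderOf t = 2 := orderOf_pow_orderOf_div (orderOf_pos d).ne' hrd
  have htt := Invol.mul_self_of_orderOf_two hto
  have hut : Commute u t := by
    refine commute_of_conj_eq ?_
    rw [ht, ← conj_pow, hinv, inv_pow, ← ht]
    exact Invol.inv_of_orderOf_two hto
  obtain ⟨Q, hQ⟩ := exists_sylow_two_mem htt
  have hC := hc.centralizer_involution_eq htt (Invol.ne_one_of_orderOf_two hto) hQ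
  have hdQ : d ∈ (Q : Subgroup G) := hC ▸ Invol.mem_centralizer_singleton_iff'.2
    ((Commute.refl d).pow_right _)
  have huQ : u ∈ (Q : Subgroup G) := hC ▸ Invol.mem_centralizer_singleton_iff'.2 hut
  refine hne ?_
  have h := (hc.two_group_comm Q.2 hdQ huQ).mul_left (Commute.refl u)
  rwa [mul_assoc, huu, mul_one] at h

omit hc in
/-- Pairs with a prescribed second entry of a free `Q`-translate. -/
theorem card_eq_two_mul {α β : Type*} [Finite α] [Finite β] (f : α → β)
    (h : ∀ b : β, Nat.card {a : α // f a = b} = 2) : Nat.card α = 2 * Nat.card β := by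
  haveI := Fintype.ofFinite β
  rw [← Nat.card_congr (Equiv.sigmaFiberEquiv f), Nat.card_sigma, Finset.sum_congr rfl fun b _ => h b]
  simp [mul_comm]

theorem false_of_config : False := by
  classical
  haveI : Fact p.Prime := ⟨hc.prime⟩
  haveI : Fact (Nat.Prime 2) := ⟨Nat.prime_two⟩
  let P : Sylow p G := default
  obtain ⟨u, huu, hu1, hinv, hN⟩ := hc.exists_inverting P
  obtain ⟨Q, hQ⟩ := exists_sylow_two_mem huu
  have hCu := hc.centralizer_involution_eq huu hu1 hQ
  have hCQ : ∀ {z : G}, z ∈ Q ↔ Commute z u := fun {z} =>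
    (SetLike.ext_iff.1 hCu z).symm.trans Invol.mem_centralizer_singleton_iff'
  set K := {v : G // ∃ g : G, g * u * g⁻¹ = v}
  set B := {v : K // Commute (v : G) u}
  set A := {v : K // ¬ Commute (v : G) u}
  -- involutions commuting with `u`
  have hB : Nat.card B = p := by
    have e : B ≃ {z : (Q : Subgroup G) // z ≠ 1} :=
      { toFun := fun v => ⟨⟨v.1.1, hCQ.2 v.2⟩, fun h => by
          obtain ⟨g, hg⟩ := v.1.2
          exact hu1 (conj_eq_one_iff.1 (hg.trans (congrArg Subtype.val h)))⟩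
        invFun := fun z => ⟨⟨z.1, hc.conj_of_involution huu hu1 (hc.mul_self_of_mem_two Q z.1.2)
          (fun h => z.2 (Subtype.ext h))⟩, hCQ.1 z.1.2⟩
        left_inv := fun v => rfl
        right_inv := fun z => rfl }
    haveI := Fintype.ofFinite (Q : Subgroup G)
    rw [Nat.card_congr e, Nat.card_eq_fintype_card, Fintype.card_subtype_compl,
      Fintype.card_subtype_eq, ← Nat.card_eq_fintype_card]
    show Nat.card Q - 1 = p
    rw [hc.card_sylow_two Q]; omega
  set D := {d : G // d ≠ 1 ∧ PEl p d ∧ u * d * u⁻¹ = d⁻¹}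
  -- involutions not commuting with `u`
  have hA : Nat.card A = Nat.card D := by
    have hvv : ∀ v : K, (v : G) * v = 1 := by
      rintro ⟨v, g, rfl⟩
      calc g * u * g⁻¹ * (g * u * g⁻¹) = g * (u * u) * g⁻¹ := by group
        _ = 1 := by rw [huu]; group
    refine Nat.card_congr
      { toFun := fun v => ⟨v.1.1 * u, fun h => v.2 (by
            rw [eq_inv_of_mul_eq_one_left h]; exact (Commute.refl u).inv_left),
          hc.mul_pEl huu hu1 (hvv v.1) v.2, Invol.conj_mul_eq_inv (hvv v.1) huu⟩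
        invFun := fun d => ⟨⟨d.1 * u, hc.conj_of_involution huu hu1 ?_ ?_⟩, ?_⟩
        left_inv := fun v => Subtype.ext (Subtype.ext (by simp [mul_assoc, huu]))
        right_inv := fun d => Subtype.ext (by simp [mul_assoc, huu]) }
    · calc d.1 * u * (d.1 * u) = d.1 * (u * d.1 * u⁻¹) * (u * u) := by group
        _ = 1 := by rw [d.2.2.2, huu, mul_one, mul_inv_cancel]
    · intro h
      have h1 : d.1 = u⁻¹ := eq_inv_of_mul_eq_one_left h
      refine d.2.1 (hc.eq_one_of_pEl_sq d.2.2.1 ?_)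
      rw [h1, ← mul_inv_rev, huu, inv_one]
    · intro h
      have hdu : Commute d.1 u := by
        have h' := Commute.mul_left h (Commute.refl u)
        rwa [mul_assoc, huu, mul_one] at h'
      refine d.2.1 (hc.eq_one_of_pEl_sq d.2.2.1 ?_)
      have h2 := d.2.2.2
      rw [← hdu.eq, mul_inv_cancel_right] at h2
      exact mul_eq_one_iff_eq_inv.2 h2
  -- each inverted `p`-element is a `C(u)`-translate of two elements of `P`
  set X := {x : (P : Subgroup G) // x ≠ 1}
  let F : ↥(Q : Subgroup G) × X → D := fun w => ⟨(w.1 : G) * w.2.1 * (w.1 : G)⁻¹,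
    fun h => w.2.2 (Subtype.ext (conj_eq_one_iff.1 h)), (pEl_of_mem P.2 w.2.1.2).conj _, by
      have e : Commute (w.1 : G) u := hCQ.1 w.1.2
      calc u * ((w.1 : G) * w.2.1 * (w.1 : G)⁻¹) * u⁻¹
          = (u * (w.1 : G)) * w.2.1 * ((w.1 : G)⁻¹ * u⁻¹) := by group
        _ = ((w.1 : G) * u) * w.2.1 * (u⁻¹ * (w.1 : G)⁻¹) := by rw [e.eq, (e.inv_inv).eq]
        _ = (w.1 : G) * (u * w.2.1 * u⁻¹) * (w.1 : G)⁻¹ := by group
        _ = ((w.1 : G) * w.2.1 * (w.1 : G)⁻¹)⁻¹ := by rw [hinv _ w.2.1.2]; group⟩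
  have hF : ∀ d : D, Nat.card {w // F w = d} = 2 := by
    intro d
    -- one preimage
    obtain ⟨P2, hd2⟩ := hc.exists_sylow_mem d.2.2.1
    obtain ⟨g, hg⟩ := MulAction.exists_smul_eq G P P2
    have hmem2 : ∀ a : G, a ∈ P2 ↔ g⁻¹ * a * g ∈ P := by
      intro a
      rw [← hg]
      constructor
      · rintro ⟨b, hb, rfl⟩
        show g⁻¹ * (g * b * g⁻¹) * g ∈ P
        rwa [show g⁻¹ * (g * b * g⁻¹) * g = b by group]
      · intro ha
        exact ⟨_, ha, show g * (g⁻¹ * a * g) * g⁻¹ = a by group⟩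
    have huN2 : g⁻¹ * u * g ∈ normalizer ((P : Subgroup G) : Set G) := by
      refine mem_sylow_normalizer_of_conj fun a ha => ?_
      have ha2 : g * a * g⁻¹ ∈ P2 := (hmem2 _).2 (by rwa [show g⁻¹ * (g * a * g⁻¹) * g = a by group])
      have h : u * (g * a * g⁻¹) * u⁻¹ ∈ P2 := by
        refine hc.mem_of_commute (inv_mem hd2) (inv_ne_one.2 d.2.1) ?_
        have h := (Commute.conj_iff u).2 (hc.sylow_comm P2 ha2 hd2)
        rwa [d.2.2.2] at h
      have h' := (hmem2 _).1 h
      rwa [show g⁻¹ * (u * (g * a * g⁻¹) * u⁻¹) * g = g⁻¹ * u * g * a * (g⁻¹ * u * g)⁻¹ by group] at h'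
    obtain ⟨y, hy, hyu⟩ := hN _ huN2
    have hgug : g⁻¹ * u * g * (g⁻¹ * u * g) = 1 := by
      calc _ = g⁻¹ * (u * u) * g := by group
        _ = 1 := by rw [huu]; group
    have hyu' : g⁻¹ * u * g = y * u := by
      rcases hyu with h | h
      · exfalso
        rw [h] at hgug
        have := hc.eq_one_of_pEl_sq (pEl_of_mem P.2 hy) hgug
        rw [this] at h
        exact hu1 (by
          calc u = g * (g⁻¹ * u * g) * g⁻¹ := by group
            _ = 1 := by rw [h]; group)
      · exact h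
    obtain ⟨z, hz, hzz⟩ : ∃ z ∈ P, z * z = y := by
      obtain ⟨m, hm⟩ := exists_pow_eq_self_of_coprime (n := 2) (x := y)
        (pEl_coprime_two hc.prime hc.odd (pEl_of_mem P.2 hy)).symm
      refine ⟨y ^ m, pow_mem hy m, ?_⟩
      rw [← pow_two, ← pow_mul, mul_comm, pow_mul, hm]
    have hzu : z * u * z⁻¹ = g⁻¹ * u * g := by
      have h := hinv z⁻¹ (inv_mem hz)
      rw [inv_inv] at h
      rw [hyu', ← hzz]
      calc z * u * z⁻¹ = z * (u * z⁻¹ * u⁻¹) * u := by group
        _ = z * z * u := by rw [h]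
    set h0 := g * z
    have hh0 : h0 ∈ Q := hCQ.2 (commute_of_conj_eq (by
      calc h0 * u * h0⁻¹ = g * (z * u * z⁻¹) * g⁻¹ := by simp only [h0]; group
        _ = u := by rw [hzu]; group))
    have hx0 : h0⁻¹ * d.1 * h0 ∈ P := by
      rw [show h0⁻¹ * d.1 * h0 = z⁻¹ * (g⁻¹ * d.1 * g) * z by simp only [h0]; group]
      exact mul_mem (mul_mem (inv_mem hz) ((hmem2 _).1 hd2)) hz
    let x0 : X := ⟨⟨_, hx0⟩, fun h => d.2.1 (by
      have h' : h0⁻¹ * d.1 * h0 = 1 := congrArg Subtype.val h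
      calc d.1 = h0 * (h0⁻¹ * d.1 * h0) * h0⁻¹ := by group
        _ = 1 := by rw [h']; group)⟩
    have hx0u : u * (x0.1 : G) * u⁻¹ ∈ P := by rw [hinv _ x0.1.2]; exact inv_mem x0.1.2
    let x1 : X := ⟨⟨_, hx0u⟩, fun h => x0.2 (Subtype.ext (conj_eq_one_iff.1 (congrArg Subtype.val h)))⟩
    let w0 : {w // F w = d} := ⟨(⟨h0, hh0⟩, x0), Subtype.ext (by
      show h0 * (h0⁻¹ * d.1 * h0) * h0⁻¹ = d.1
      group)⟩
    let w1 : {w // F w = d} := ⟨(⟨h0 * u⁻¹, mul_mem hh0 (inv_mem hQ)⟩, x1), Subtype.ext (by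
      show h0 * u⁻¹ * (u * (h0⁻¹ * d.1 * h0) * u⁻¹) * (h0 * u⁻¹)⁻¹ = d.1
      group)⟩
    rw [Nat.card_eq_two_iff]
    refine ⟨w0, w1, fun h => hu1 ?_, ?_⟩
    · have h' : h0 = h0 * u⁻¹ := congrArg (fun w : {w // F w = d} => (w.1.1 : G)) h
      exact inv_eq_one.1 (mul_eq_left.1 h'.symm)
    refine Set.eq_univ_of_forall fun w => ?_
    obtain ⟨⟨h, x⟩, hw⟩ := w
    have hw' : (h : G) * x.1 * (h : G)⁻¹ = d.1 := congrArg Subtype.val hw
    set k := (h : G)⁻¹ * h0 with hk
    have hkx : k * x0.1 * k⁻¹ = x.1 := by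
      show k * (h0⁻¹ * d.1 * h0) * k⁻¹ = x.1
      rw [← hw']; simp only [k]; group
    have hkQ : k ∈ Q := mul_mem (inv_mem h.2) hh0
    have hkN : k ∈ normalizer ((P : Subgroup G) : Set G) := by
      refine mem_sylow_normalizer_of_conj fun a ha => ?_
      refine hc.mem_of_commute x.1.2 (fun e => x.2 (Subtype.ext e)) ?_
      rw [← hkx]
      exact (Commute.conj_iff k).2 (hc.sylow_comm P ha x0.1.2)
    have hkk := hc.mul_self_of_mem_two Q hkQ
    obtain ⟨b, hb, hbk⟩ := hN k hkN
    have hcases : k = 1 ∨ k = u := by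
      rcases hbk with e | e
      · left
        rw [e] at hkk ⊢
        exact hc.eq_one_of_pEl_sq (pEl_of_mem P.2 hb) hkk
      · right
        have hbu : Commute b u := by
          have h' := (hCQ.1 hkQ).mul_left (Commute.refl u)
          rwa [e, mul_assoc, huu, mul_one] at h'
        rw [e, hc.eq_one_of_commute_involution huu hu1 (pEl_of_mem P.2 hb) hbu.symm, one_mul]
    simp only [Set.mem_insert_iff, Set.mem_singleton_iff]
    rcases hcases with e | e
    · left
      have e1 : (h : G) = h0 := inv_mul_eq_one.1 e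
      refine Subtype.ext (Prod.ext (Subtype.ext e1) (Subtype.ext (Subtype.ext ?_)))
      show (x.1 : G) = h0⁻¹ * d.1 * h0
      rw [← hw', e1]; group
    · right
      have e1 : (h : G) = h0 * u⁻¹ := by rw [← e, hk]; group
      refine Subtype.ext (Prod.ext (Subtype.ext e1) (Subtype.ext (Subtype.ext ?_)))
      show (x.1 : G) = u * x0.1 * u⁻¹
      rw [← e]; exact hkx.symm
  have hcount : Nat.card (Q : Subgroup G) * Nat.card X = 2 * Nat.card D := by
    rw [← Nat.card_prod]; exact card_eq_two_mul F hF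
  have hX : Nat.card X + 1 = Nat.card P := by
    haveI := Fintype.ofFinite (P : Subgroup G)
    rw [Nat.card_eq_fintype_card, Fintype.card_subtype_compl, Fintype.card_subtype_eq]
    show _ = Nat.card (P : Subgroup G)
    rw [Nat.card_eq_fintype_card]
    have := Fintype.card_pos (α := (P : Subgroup G))
    omega
  have hQc : Nat.card (Q : Subgroup G) = p + 1 := hc.card_sylow_two Q
  have hK : Nat.card K = p + Nat.card D := by
    rw [← hB, ← hA, ← Nat.card_sum]
    exact (Nat.card_congr (Equiv.sumCompl fun v : K => Commute (v : G) u)).symm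
  have hpK : p ∣ Nat.card K := by
    have h := CyclicSylow.card_class (G := G) u
    rw [hCu] at h
    have hd : p ∣ Nat.card K * Nat.card (Q : Subgroup G) := h.symm ▸ hc.p_dvd
    refine (hc.prime.dvd_mul.1 hd).resolve_right ?_
    rw [hQc]
    intro h1
    exact hc.prime.ne_one (Nat.dvd_one.1 ((Nat.dvd_add_right dvd_rfl).1 h1))
  have hpD : p ∣ Nat.card D := (Nat.dvd_add_right dvd_rfl).1 (hK ▸ hpK)
  have hpX : p ∣ Nat.card X := by
    have hd : p ∣ Nat.card (Q : Subgroup G) * Nat.card X := hcount.symm ▸ dvd_mul_of_dvd_right hpD 2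
    refine (hc.prime.dvd_mul.1 hd).resolve_left ?_
    rw [hQc]
    intro h1
    exact hc.prime.ne_one (Nat.dvd_one.1 ((Nat.dvd_add_right dvd_rfl).1 h1))
  have hpP : p ∣ Nat.card P := P.dvd_card_of_dvd_card hc.p_dvd
  rw [← hX] at hpP
  exact hc.prime.ne_one (Nat.dvd_one.1 ((Nat.dvd_add_right hpX).1 hpP))

end Config

end Cfsg.Agent.MixedSubgroups
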