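import Cfsg.Agent.Lib.MixedSubgroups.CaseOne

/-!
# Case II: centralisers of involutions and of `p`-elements with even centraliser
-/

set_option autoImplicit false

namespace Cfsg.Agent.MixedSubgroups

open Subgroup
open scoped Pointwise

variable {p : ℕ} {G : Type*} [Group G] [Finite G]

omit [Finite G] in
theorem pEl_coprime_two {y : G} (hp : p.Prime) (hp2 : p ≠ 2) (h : PEl p y) :
    Nat.Coprime (orderOf y) 2 := by
  obtain ⟨k, hk⟩ := h
  exact Nat.Coprime.coprime_dvd_left (orderOf_dvd_of_pow_eq_one hk)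
    (Nat.Coprime.pow_left k ((Nat.coprime_primes hp Nat.prime_two).2 hp2))

theorem pEl_of_primes (hp : p.Prime) {d : G} (h : ∀ r : ℕ, r.Prime → r ∣ orderOf d → r = p) :
    PEl p d := by
  haveI : Fact p.Prime := ⟨hp⟩
  exact pEl_of_mem (isPGroup_of_unique_prime (zpowers d) fun r hr hrd =>
    h r hr (by rwa [Nat.card_zpowers] at hrd)) (mem_zpowers d)

omit [Finite G] in
theorem mem_sylow_normalizer_of_conj {P : Sylow p G} {g : G}
    (h : ∀ a ∈ P, g * a * g⁻¹ ∈ P) : g ∈ normalizer ((P : Subgroup G) : Set G) := by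
  have hle : ((g • P : Sylow p G) : Subgroup G) ≤ P := by
    rintro _ ⟨a, ha, rfl⟩
    exact h a ha
  exact (Sylow.smul_eq_iff_mem_normalizer (P := P)).1
    (Sylow.ext ((g • P).is_maximal' P.2 hle).symm)

namespace Config

variable (hc : Config p G)
include hc

theorem conj_of_involution {u v : G} (huu : u * u = 1) (hu1 : u ≠ 1) (hvv : v * v = 1)
    (hv1 : v ≠ 1) : ∃ g : G, g * u * g⁻¹ = v := by
  haveI : Fact (Nat.Prime 2) := ⟨Nat.prime_two⟩
  obtain ⟨Q, hQ⟩ := exists_sylow_two_mem huu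
  obtain ⟨R, hR⟩ := exists_sylow_two_mem hvv
  obtain ⟨g, hg⟩ := MulAction.exists_smul_eq G R Q
  have hgv : g * v * g⁻¹ ∈ Q := by
    rw [← hg]; exact ⟨v, hR, rfl⟩
  obtain ⟨σ, -, -, htr⟩ := hc.trans Q
  obtain ⟨i, hi⟩ := htr u hQ hu1 _ hgv (fun e => hv1 (conj_eq_one_iff.1 e))
  refine ⟨g⁻¹ * σ ^ i, ?_⟩
  calc _ = g⁻¹ * (σ ^ i * u * (σ ^ i)⁻¹) * g := by group
    _ = v := by rw [hi]; group

/-- A `p`-element normalising a Sylow 2-subgroup and fixing one of its involutions is trivial. -/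
theorem eq_one_of_fixes {Q : Sylow 2 G} {τ v : G} (hτ : PEl p τ)
    (hN : τ ∈ normalizer ((Q : Subgroup G) : Set G)) (hv : v ∈ Q) (hv1 : v ≠ 1)
    (hfix : Commute τ v) : τ = 1 := by
  obtain ⟨k, hk⟩ := hτ
  exact hc.eq_one_of_centralizes_sylow_two ⟨k, hk⟩ fun u hu =>
    (commute_of_fixed hc.prime hk hN (hc.card_sylow_two Q).le hv hv1 hfix hu).symm

/-- The odd part of a `2`-nilpotent `{2, p}`-subgroup. -/
theorem exists_odd_part {H : Subgroup G} (hH : H ≠ ⊤) (h2 : 2 ∣ Nat.card H)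
    (hcomp : Cfsg.HasNormalPComplement 2 H) :
    ∃ W : Subgroup G, IsPGroup p W ∧ W ≤ H ∧ H ≤ normalizer (W : Set G) ∧
      ∀ y ∈ H, PEl p y → y ∈ W := by
  haveI : Fact p.Prime := ⟨hc.prime⟩
  haveI : Fact (Nat.Prime 2) := ⟨Nat.prime_two⟩
  haveI := Transfer.pResidual_normal (G := H) 2
  have hodd := Transfer.hasNormalPComplement_iff.1 hcomp
  have hcard : Nat.card ((Cfsg.pResidual 2 H).map H.subtype) = Nat.card (Cfsg.pResidual 2 H) :=
    Subgroup.card_map_of_injective H.subtype_injective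
  refine ⟨(Cfsg.pResidual 2 H).map H.subtype, ?_, map_subtype_le _, ?_, ?_⟩
  · refine isPGroup_of_unique_prime _ fun r hr hrd => ?_
    rw [hcard] at hrd
    refine (hc.primes H hH h2 r hr (hrd.trans (card_subgroup_dvd_card _))).resolve_right ?_
    rintro rfl
    exact hodd hrd
  · intro h hh
    rw [mem_normalizer_iff]
    intro y
    constructor
    · rintro ⟨z, hz, rfl⟩
      exact ⟨⟨h, hh⟩ * z * ⟨h, hh⟩⁻¹, (inferInstance : (Cfsg.pResidual 2 H).Normal).conj_mem z hz _,
        rfl⟩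
    · rintro ⟨z, hz, hzy⟩
      refine ⟨⟨h, hh⟩⁻¹ * z * ⟨h, hh⟩, ?_, ?_⟩
      · simpa using (inferInstance : (Cfsg.pResidual 2 H).Normal).conj_mem z hz (⟨h, hh⟩⁻¹ : H)
      · have e : (z : G) = h * y * h⁻¹ := hzy
        show h⁻¹ * (z : G) * h = y
        rw [e]; group
  · intro y hy hyp
    refine ⟨⟨y, hy⟩, (Transfer.mem_pResidual_iff hcomp _).2 ?_, rfl⟩
    rw [orderOf_mk]
    exact pEl_coprime_two hc.prime hc.odd hyp

/-- Centralisers of involutions are `2`-nilpotent. -/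
theorem complement_centralizer_involution {v : G} (hvv : v * v = 1) (hv1 : v ≠ 1) :
    Cfsg.HasNormalPComplement 2 (centralizer ({v} : Set G)) := by
  haveI : Fact p.Prime := ⟨hc.prime⟩
  haveI : Fact (Nat.Prime 2) := ⟨Nat.prime_two⟩
  obtain ⟨Q, hQ⟩ := exists_sylow_two_mem hvv
  set C := centralizer ({v} : Set G)
  have hQC : (Q : Subgroup G) ≤ C := fun u hu =>
    Invol.mem_centralizer_singleton_iff'.2 (hc.two_group_comm Q.2 hu hQ)
  set K := C ⊓ normalizer ((Q : Subgroup G) : Set G)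
  have hK2 : IsPGroup 2 K := by
    refine isPGroup_of_unique_prime _ fun r hr hrd => ?_
    refine (hc.primes C (hc.centralizer_ne_top hv1)
      (dvd_two_of_mem hvv hv1 (Invol.mem_centralizer_singleton_iff'.2 (Commute.refl v))) r hr
      (hrd.trans (card_dvd_of_le inf_le_left))).resolve_left ?_
    rintro rfl
    obtain ⟨τ, hτ⟩ := exists_prime_orderOf_dvd_card' r hrd
    have hτ' : orderOf (τ : G) = r := by rwa [Subgroup.orderOf_coe]
    have h := hc.eq_one_of_fixes (Q := Q) ⟨1, by rw [pow_one, ← hτ', pow_orderOf_eq_one]⟩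
      τ.2.2 hQ hv1 (Invol.mem_centralizer_singleton_iff'.1 τ.2.1)
    rw [h, orderOf_one] at hτ'
    exact hr.ne_one hτ'.symm
  have hKQ : K = Q := Q.is_maximal' hK2 (le_inf hQC le_normalizer)
  refine Transfer.hasNormalPComplement_of_normalizer_le_centralizer (Q.subtype hQC) fun g hg => ?_
  have hgK : (g : G) ∈ K := by
    refine ⟨g.2, mem_normalizer_iff.2 fun y => ⟨fun hy => ?_, fun hy => ?_⟩⟩
    · exact mem_subgroupOf.1 ((mem_normalizer_iff.1 hg ⟨y, hQC hy⟩).1 (mem_subgroupOf.2 hy))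
    · have hyC : y ∈ C := by
        have := mul_mem (mul_mem (inv_mem g.2) (hQC hy)) g.2
        simpa [mul_assoc] using this
      exact mem_subgroupOf.1 ((mem_normalizer_iff.1 hg ⟨y, hyC⟩).2 (mem_subgroupOf.2 hy))
  rw [hKQ] at hgK
  rw [mem_centralizer_iff]
  intro y hy
  exact Subtype.ext (hc.two_group_comm Q.2 (mem_subgroupOf.1 hy) hgK).eq

/-- Centralisers of nontrivial `p`-elements are `2`-nilpotent. -/
theorem complement_centralizer_pEl {w : G} (hw : PEl p w) (hw1 : w ≠ 1)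
    (h2 : 2 ∣ Nat.card (centralizer ({w} : Set G))) :
    Cfsg.HasNormalPComplement 2 (centralizer ({w} : Set G)) := by
  haveI : Fact p.Prime := ⟨hc.prime⟩
  haveI : Fact (Nat.Prime 2) := ⟨Nat.prime_two⟩
  set C := centralizer ({w} : Set G)
  refine Transfer.hasNormalPComplement_of_centralizer (default : Sylow 2 C) fun U hU g hg hco => ?_
  set U' := U.map C.subtype
  have hU' : IsPGroup 2 U' := ((default : Sylow 2 C).2.to_le hU).map _
  have hgN : (g : G) ∈ normalizer (U' : Set G) :=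
    le_normalizer_map C.subtype ⟨g, hg, rfl⟩
  obtain ⟨k, hk⟩ : PEl p (g : G) := by
    refine pEl_of_primes hc.prime fun r hr hrd => ?_
    refine (hc.primes C (hc.centralizer_ne_top hw1) h2 r hr
      (hrd.trans (Subgroup.orderOf_dvd_natCard _ g.2))).resolve_right ?_
    rintro rfl
    rw [Subgroup.orderOf_coe] at hrd
    exact Nat.prime_two.ne_one (Nat.eq_one_of_dvd_coprimes hco hrd dvd_rfl)
  rw [mem_centralizer_iff]
  intro u hu
  refine Subtype.ext ?_
  by_contra hne
  have hle := le_card_sub_one hc.prime hk hgN ⟨u, hu, rfl⟩ (fun h => hne h.eq.symm)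
  have hub := hc.two_group_card_le hU'
  obtain ⟨Q, hQ⟩ := hU'.exists_le_sylow
  have hQU : U' = (Q : Subgroup G) := by
    refine eq_of_le_of_card_ge hQ ((hc.card_sylow_two Q).trans_le ?_)
    have := hc.prime.two_le
    omega
  refine hw1 (hc.eq_one_of_centralizes_sylow_two (Q := Q) hw fun y hy => ?_)
  have hy' : y ∈ U' := hQU ▸ hy
  obtain ⟨z, -, rfl⟩ := hy'
  exact Invol.mem_centralizer_singleton_iff'.1 z.2

/-- If an involution commutes with `w ∈ P ∖ {1}`, then `P` holds all `p`-elements of `C(w)`. -/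
theorem mem_sylow_of_commute {P : Sylow p G} {w v y : G} (hw : w ∈ P) (hw1 : w ≠ 1)
    (hvv : v * v = 1) (hv1 : v ≠ 1) (hvw : Commute v w) (hy : PEl p y) (hyw : Commute y w) :
    y ∈ P := by
  have h2 : 2 ∣ Nat.card (centralizer ({w} : Set G)) :=
    dvd_two_of_mem hvv hv1 (Invol.mem_centralizer_singleton_iff'.2 hvw)
  obtain ⟨W, hW, -, -, hmem⟩ := hc.exists_odd_part (hc.centralizer_ne_top hw1) h2
    (hc.complement_centralizer_pEl (pEl_of_mem P.2 hw) hw1 h2)
  have hPW : (P : Subgroup G) ≤ W := fun x hx =>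
    hmem x (Invol.mem_centralizer_singleton_iff'.2 (hc.sylow_comm P hx hw)) (pEl_of_mem P.2 hx)
  have h := hmem y (Invol.mem_centralizer_singleton_iff'.2 hyw) hy
  rw [P.is_maximal' hW hPW] at h
  exact h

/-- If an involution fixes a point of `P ∖ {1}`, then `P` holds all `p`-elements commuting with it. -/
theorem mem_sylow_of_commute_involution {P : Sylow p G} {w v y : G} (hw : w ∈ P) (hw1 : w ≠ 1)
    (hvv : v * v = 1) (hv1 : v ≠ 1) (hvw : Commute v w) (hy : PEl p y) (hyv : Commute y v) :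
    y ∈ P := by
  obtain ⟨W, hW, -, -, hmem⟩ := hc.exists_odd_part (hc.centralizer_ne_top hv1)
    (dvd_two_of_mem hvv hv1 (Invol.mem_centralizer_singleton_iff'.2 (Commute.refl v)))
    (hc.complement_centralizer_involution hvv hv1)
  obtain ⟨P', hP'⟩ := hW.exists_le_sylow
  refine hc.mem_sylow_of_commute hw hw1 hvv hv1 hvw hy (hc.sylow_comm P' (hP' ?_) (hP' ?_))
  · exact hmem y (Invol.mem_centralizer_singleton_iff'.2 hyv) hy
  · exact hmem w (Invol.mem_centralizer_singleton_iff'.2 hvw.symm) (pEl_of_mem P.2 hw)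

/-- A Sylow 2-subgroup through an involution with a fixed point on `P` normalises `P`. -/
theorem sylow_two_le_normalizer {P : Sylow p G} {Q : Sylow 2 G} {w v : G} (hw : w ∈ P)
    (hw1 : w ≠ 1) (hv : v ∈ Q) (hv1 : v ≠ 1) (hvw : Commute v w) :
    (Q : Subgroup G) ≤ normalizer ((P : Subgroup G) : Set G) := by
  have hvv := hc.mul_self_of_mem_two Q hv
  intro g hg
  have hgv : Commute g v := hc.two_group_comm Q.2 hg hv
  set w' := g * w * g⁻¹
  have hvw' : Commute v w' := by
    have h := (Commute.conj_iff g).2 hvw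
    rwa [hgv.eq, mul_inv_cancel_right] at h
  have hw'P : w' ∈ P :=
    hc.mem_sylow_of_commute_involution hw hw1 hvv hv1 hvw ((pEl_of_mem P.2 hw).conj g) hvw'.symm
  refine mem_sylow_normalizer_of_conj fun a ha => ?_
  exact hc.mem_sylow_of_commute hw'P (fun e => hw1 (conj_eq_one_iff.1 e)) hvv hv1 hvw'
    ((pEl_of_mem P.2 ha).conj g) ((Commute.conj_iff g).2 (hc.sylow_comm P ha hw))

end Config

end Cfsg.Agent.MixedSubgroups
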