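import Cfsg.Agent.Lib.MixedSubgroups.Free

/-!
# Two primes from a large prime dividing the mixed subgroups: reduction to the simple configuration
-/

set_option autoImplicit false

namespace Cfsg.Agent.MixedSubgroups

open Subgroup
open scoped Pointwise

universe u

variable {p q : ℕ}

/-- The size hypothesis. -/
def Large (p q : ℕ) (G : Type u) [Group G] : Prop :=
  q ^ (Nat.card G).factorization q - 1 < p ∨
    (p = q ^ (Nat.card G).factorization q - 1 ∧ ∀ P : Sylow p G, IsMulCommutative P)

/-- Every mixed proper subgroup has order divisible by `p`. -/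
def Mixed (p q : ℕ) (G : Type u) [Group G] : Prop :=
  ∀ H : Subgroup G, H ≠ ⊤ → ¬ IsPGroup q H → q ∣ Nat.card H → p ∣ Nat.card H

theorem large_of_dvd {G G' : Type u} [Group G] [Group G'] [Finite G] [Finite G'] (hq : q.Prime)
    (h : Large p q G) (hd : Nat.card G' ∣ Nat.card G)
    (hab : (∀ P : Sylow p G, IsMulCommutative P) → ∀ P : Sylow p G', IsMulCommutative P) :
    Large p q G' := by
  have hle : q ^ (Nat.card G').factorization q ≤ q ^ (Nat.card G).factorization q :=
    Nat.pow_le_pow_right hq.pos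
      ((Nat.factorization_le_iff_dvd Nat.card_pos.ne' Nat.card_pos.ne').2 hd q)
  rcases h with h | ⟨h, h'⟩
  · exact Or.inl (by omega)
  · rcases eq_or_lt_of_le hle with e | e
    · exact Or.inr ⟨by rw [e]; exact h, hab h'⟩
    · have := Nat.one_le_pow ((Nat.card G').factorization q) q hq.pos
      exact Or.inl (by omega)

theorem abelian_subgroup {G : Type u} [Group G] (H : Subgroup G)
    (h : ∀ P : Sylow p G, IsMulCommutative P) (P : Sylow p H) : IsMulCommutative P := by
  obtain ⟨R, hR⟩ := (P.2.map H.subtype).exists_le_sylow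
  haveI := h R
  refine ⟨⟨fun a b => ?_⟩⟩
  have e := congrArg Subtype.val (mul_comm' (⟨_, hR ⟨a, a.2, rfl⟩⟩ : (R : Subgroup G))
    ⟨_, hR ⟨b, b.2, rfl⟩⟩)
  exact Subtype.ext (Subtype.ext e)

theorem abelian_quotient {G : Type u} [Group G] [Fact p.Prime] (M : Subgroup G) [M.Normal]
    (hM : IsPGroup p M) (h : ∀ P : Sylow p G, IsMulCommutative P) (P : Sylow p (G ⧸ M)) :
    IsMulCommutative P := by
  have hc : IsPGroup p ((P : Subgroup (G ⧸ M)).comap (QuotientGroup.mk' M)) :=
    P.2.comap_of_ker_isPGroup _ (by rw [QuotientGroup.ker_mk']; exact hM)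
  obtain ⟨R, hR⟩ := hc.exists_le_sylow
  haveI := h R
  refine ⟨⟨fun a b => Subtype.ext ?_⟩⟩
  obtain ⟨x, hx⟩ := QuotientGroup.mk'_surjective M (a : G ⧸ M)
  obtain ⟨y, hy⟩ := QuotientGroup.mk'_surjective M (b : G ⧸ M)
  have e := congrArg Subtype.val
    (mul_comm' (⟨x, hR (by show _ ∈ (P : Subgroup (G ⧸ M)); rw [hx]; exact a.2)⟩ : (R : Subgroup G))
      ⟨y, hR (by show _ ∈ (P : Subgroup (G ⧸ M)); rw [hy]; exact b.2)⟩)
  have e' : x * y = y * x := e
  show (a : G ⧸ M) * b = b * a
  rw [← hx, ← hy, ← map_mul, ← map_mul, e']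

theorem primes_eq_of_isPGroup {G : Type u} [Group G] {s r : ℕ} [Fact s.Prime] {U : Subgroup G}
    [Finite U] (hU : IsPGroup s U) (hr : r.Prime) (h : r ∣ Nat.card U) : r = s := by
  obtain ⟨k, hk⟩ := IsPGroup.iff_card.1 hU
  rw [hk] at h
  exact (Nat.prime_dvd_prime_iff_eq hr Fact.out).1 (hr.dvd_of_dvd_pow h)

/-- The main theorem. -/
theorem two_primes (hp : p.Prime) (hq : q.Prime) (hpq : p ≠ q) (hp2 : p ≠ 2) (n : ℕ) :
    ∀ (G : Type u) [Group G] [Finite G], Nat.card G = n → p ∣ Nat.card G → q ∣ Nat.card G →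
      Mixed p q G → Large p q G → ∀ r : ℕ, r.Prime → r ∣ Nat.card G → r = p ∨ r = q := by
  induction n using Nat.strong_induction_on with
  | _ n ih =>
  intro G _ _ hn hpG hqG hmix hlarge
  haveI : Fact p.Prime := ⟨hp⟩
  haveI : Fact q.Prime := ⟨hq⟩
  haveI : Fact (Nat.Prime 2) := ⟨Nat.prime_two⟩
  -- proper subgroups of order divisible by `q`
  have L0 : ∀ H : Subgroup G, H ≠ ⊤ → q ∣ Nat.card H →
      ∀ r : ℕ, r.Prime → r ∣ Nat.card H → r = p ∨ r = q := by
    intro H hH hqH
    by_cases hHq : IsPGroup q H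
    · exact fun r hr hd => Or.inr (primes_eq_of_isPGroup hHq hr hd)
    have hlt : Nat.card H < n := by
      rw [← hn]
      refine lt_of_le_of_ne (Nat.le_of_dvd Nat.card_pos (card_subgroup_dvd_card H)) fun e => hH ?_
      exact eq_top_of_card_eq H e
    refine ih _ hlt H rfl (hmix H hH hHq hqH) hqH (fun K hK hKq hqK => ?_)
      (large_of_dvd hq hlarge (card_subgroup_dvd_card H) (abelian_subgroup H))
    have hc : Nat.card (K.map H.subtype) = Nat.card K :=
      Subgroup.card_map_of_injective H.subtype_injective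
    rw [← hc] at hqK ⊢
    refine hmix _ ?_ ?_ hqK
    · intro e
      refine hH (eq_top_iff.2 ?_)
      rw [← e]
      exact map_subtype_le K
    · exact fun h => hKq (h.of_equiv (K.equivMapOfInjective _ H.subtype_injective).symm)
  intro r hr hrG
  by_contra hne
  push Not at hne
  obtain ⟨hrp, hrq⟩ := hne
  haveI : Fact r.Prime := ⟨hr⟩
  -- a normal `s`-subgroup and an element of order `t`, where `{s, t} = {q, r}`
  have noQR : ∀ {s t : ℕ} [Fact s.Prime] (U : Subgroup G) [U.Normal], IsPGroup s U → U ≠ ⊥ →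
      t.Prime → s ≠ p → t ≠ p → s ≠ t → t ∣ Nat.card G →
      ((s = q ∧ t = r) ∨ (s = r ∧ t = q)) → False := by
    intro s t _ U _ hU hU1 ht hsp htp hst htG hst'
    haveI : Fact t.Prime := ⟨ht⟩
    obtain ⟨y, hy⟩ := exists_prime_orderOf_dvd_card' t htG
    have hY : IsPGroup t (zpowers y) := IsPGroup.of_card (n := 1) (by rw [Nat.card_zpowers, hy, pow_one])
    have hle : zpowers y ≤ normalizer (U : Set G) := by
      rw [normalizer_eq_top_iff.2 inferInstance]; exact le_top
    have hcard : Nat.card (zpowers y ⊔ U : Subgroup G) = Nat.card (zpowers y) * Nat.card U :=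
      Coprime.card_sup_of_le_normalizer hle (disjoint_iff.1 (IsPGroup.disjoint_of_coprime hY hU
        ((Nat.coprime_primes ht Fact.out).2 hst.symm)))
    have hsU : s ∣ Nat.card U := by
      obtain ⟨k, hk⟩ := IsPGroup.iff_card.1 hU
      rcases k with _ | k
      · exact absurd (eq_bot_of_card_eq U (by simpa using hk)) hU1
      · rw [hk]; exact dvd_pow_self s k.succ_ne_zero
    have htS : t ∣ Nat.card (zpowers y ⊔ U : Subgroup G) := by
      rw [hcard, Nat.card_zpowers, hy]; exact dvd_mul_right _ _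
    have hsS : s ∣ Nat.card (zpowers y ⊔ U : Subgroup G) := by
      rw [hcard]; exact dvd_mul_of_dvd_right hsU _
    have hne' : (zpowers y ⊔ U : Subgroup G) ≠ ⊤ := by
      intro e
      rw [e, card_top] at hcard
      rcases hp.dvd_mul.1 (hcard ▸ hpG) with h | h
      · exact htp (primes_eq_of_isPGroup hY hp h).symm
      · exact hsp (primes_eq_of_isPGroup hU hp h).symm
    rcases hst' with ⟨rfl, rfl⟩ | ⟨rfl, rfl⟩
    · exact (L0 _ hne' hsS t ht htS).elim hrp hrq
    · exact (L0 _ hne' htS s Fact.out hsS).elim hrp hrq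
  have noNormalQ : ∀ (U : Subgroup G) [U.Normal], IsPGroup q U → U = ⊥ := by
    intro U _ hU
    by_contra h
    exact noQR U hU h hr hpq.symm hrp (Ne.symm hrq) hrG (Or.inl ⟨rfl, rfl⟩)
  have frattini : ∀ (M : Subgroup G) [M.Normal] (s : ℕ) [Fact s.Prime] (R : Sylow s M),
      Nat.card (G ⧸ M) ∣ Nat.card (normalizer ((R : Subgroup M).map M.subtype : Set G)) := by
    intro M _ s _ R
    set N := normalizer ((R : Subgroup M).map M.subtype : Set G)
    refine card_dvd_of_surjective ((QuotientGroup.mk' M).comp N.subtype) fun a => ?_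
    obtain ⟨x, rfl⟩ := QuotientGroup.mk'_surjective M a
    have hx : x ∈ N ⊔ M := by rw [Sylow.normalizer_sup_eq_top R]; trivial
    obtain ⟨a, ha, m, hm, rfl⟩ := mem_sup_of_normal_right.1 hx
    refine ⟨⟨a, ha⟩, ?_⟩
    simp [(QuotientGroup.eq_one_iff m).2 hm]
  -- a normal `q'`-subgroup has order prime to every prime other than `p`
  have noR : ∀ (M : Subgroup G) [M.Normal] (s : ℕ), s.Prime → s ≠ p → ¬ q ∣ Nat.card M →
      s ∣ Nat.card M → False := by
    intro M _ s hs hsp hqM hsM
    haveI : Fact s.Prime := ⟨hs⟩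
    have hsq : s ≠ q := fun e => hqM (e ▸ hsM)
    let R : Sylow s M := default
    have hcard : Nat.card ((R : Subgroup M).map M.subtype) = Nat.card R :=
      Subgroup.card_map_of_injective M.subtype_injective
    have hsR : s ∣ Nat.card ((R : Subgroup M).map M.subtype) := hcard ▸ R.dvd_card_of_dvd_card hsM
    set N := normalizer ((R : Subgroup M).map M.subtype : Set G)
    have hqN : q ∣ Nat.card N := by
      refine Dvd.dvd.trans ?_ (frattini M s R)
      have h := hqG
      rw [card_eq_card_quotient_mul_card_subgroup M] at h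
      exact (hq.dvd_mul.1 h).resolve_right hqM
    by_cases hN : N = ⊤
    · haveI : ((R : Subgroup M).map M.subtype).Normal := normalizer_eq_top_iff.1 hN
      obtain ⟨y, hy⟩ := exists_prime_orderOf_dvd_card' q hqG
      have hY : IsPGroup q (zpowers y) :=
        IsPGroup.of_card (n := 1) (by rw [Nat.card_zpowers, hy, pow_one])
      have hle : zpowers y ≤ N := hN ▸ le_top
      have hR : IsPGroup s ((R : Subgroup M).map M.subtype) := R.2.map _
      set S := zpowers y ⊔ (R : Subgroup M).map M.subtype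
      have hSc : Nat.card S = Nat.card (zpowers y) * Nat.card ((R : Subgroup M).map M.subtype) :=
        Coprime.card_sup_of_le_normalizer hle (disjoint_iff.1 (IsPGroup.disjoint_of_coprime hY hR
          ((Nat.coprime_primes hq hs).2 hsq.symm)))
      have hS : S ≠ ⊤ := by
        intro e
        rw [e, card_top] at hSc
        rcases hp.dvd_mul.1 (hSc ▸ hpG) with h | h
        · exact hpq (primes_eq_of_isPGroup hY hp h)
        · exact hsp (primes_eq_of_isPGroup hR hp h).symm
      refine (L0 S hS ?_ s hs ?_).elim hsp hsq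
      · rw [hSc, Nat.card_zpowers, hy]; exact dvd_mul_right _ _
      · rw [hSc]; exact dvd_mul_of_dvd_right hsR _
    · exact (L0 N hN hqN s hs (hsR.trans (card_dvd_of_le le_normalizer))).elim hsp hsq
  -- a `q`-subgroup with a non-central `p`-element in its normaliser
  let Q0 : Sylow q G := default
  have hQ0 : Nat.card (Q0 : Subgroup G) = q ^ (Nat.card G).factorization q := Q0.card_eq_multiplicity
  obtain ⟨U, hUQ, g, hgN, hgco, hgC⟩ : ∃ U : Subgroup G, U ≤ (Q0 : Subgroup G) ∧
      ∃ g ∈ normalizer (U : Set G), Nat.Coprime (orderOf g) q ∧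
        g ∉ centralizer (U : Set G) := by
    by_contra h
    push Not at h
    have hcomp := Transfer.hasNormalPComplement_of_centralizer Q0 h
    haveI := Transfer.pResidual_normal (G := G) q
    have hqK := Transfer.hasNormalPComplement_iff.1 hcomp
    refine noR (Cfsg.pResidual q G) r hr hrp hqK ?_
    have hc := (Transfer.isComplement'_pResidual Q0 hqK).card_mul_card
    rw [← hc] at hrG
    exact (hr.dvd_mul.1 hrG).resolve_right fun h => hrq (primes_eq_of_isPGroup Q0.2 hr h)
  have hUp : IsPGroup q U := Q0.2.to_le hUQ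
  have hU1 : U ≠ ⊥ := by
    rintro rfl
    exact hgC (mem_centralizer_iff.2 fun x hx => by rw [mem_bot.1 hx]; simp)
  have hNU : normalizer (U : Set G) ≠ ⊤ := fun e => by
    haveI := normalizer_eq_top_iff.1 e
    exact hU1 (noNormalQ U hUp)
  have hqU : q ∣ Nat.card U := by
    obtain ⟨k, hk⟩ := IsPGroup.iff_card.1 hUp
    rcases k with _ | k
    · exact absurd (eq_bot_of_card_eq U (by simpa using hk)) hU1
    · rw [hk]; exact dvd_pow_self q k.succ_ne_zero
  have hgp : PEl p g := pEl_of_primes hp fun s hs hsd => by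
    refine (L0 _ hNU (hqU.trans (card_dvd_of_le le_normalizer)) s hs
      (hsd.trans (Subgroup.orderOf_dvd_natCard _ hgN))).resolve_right ?_
    rintro rfl
    exact hq.ne_one (Nat.eq_one_of_dvd_coprimes hgco hsd dvd_rfl)
  obtain ⟨k, hk⟩ := hgp
  obtain ⟨u0, hu0, hu0g⟩ : ∃ u0 ∈ U, ¬ Commute g u0 := by
    by_contra h
    push Not at h
    exact hgC (mem_centralizer_iff.2 fun x hx => (h x hx).symm.eq)
  have hpU := le_card_sub_one hp hk hgN hu0 hu0g
  have hUle : Nat.card U ≤ q ^ (Nat.card G).factorization q :=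
    hQ0 ▸ Nat.le_of_dvd Nat.card_pos (card_dvd_of_le hUQ)
  rcases hlarge with hlt | ⟨hpeq, hab⟩
  · omega
  have hUQ0 : U = (Q0 : Subgroup G) := by
    refine eq_of_le_of_card_ge hUQ ?_
    have := hp.two_le
    omega
  have hcard : q ^ (Nat.card G).factorization q = p + 1 := by have := hp.two_le; omega
  obtain rfl : q = 2 := by
    have h2 : 2 ∣ q ^ (Nat.card G).factorization q := by
      rw [hcard]; exact even_iff_two_dvd.1 (hp.odd_of_ne_two hp2).add_one
    exact ((Nat.prime_dvd_prime_iff_eq Nat.prime_two hq).1 (Nat.prime_two.dvd_of_dvd_pow h2)).symm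
  have hUc : Nat.card U = p + 1 := by rw [hUQ0, hQ0, hcard]
  have htransU : ∀ u ∈ U, u ≠ 1 → ∀ v ∈ U, v ≠ 1 → ∃ i : ℕ, g ^ i * u * (g ^ i)⁻¹ = v := by
    intro u hu hu1 v hv hv1
    refine exists_conj_eq hp hk hgN hUc hu (fun hcom => hu0g ?_) hv hv1
    exact commute_of_fixed hp hk hgN hUc.le hu hu1 hcom hu0
  -- `G` is simple
  have hsimple : IsSimpleGroup G := by
    haveI : Nontrivial G := by
      rw [← Finite.one_lt_card_iff_nontrivial]
      exact lt_of_lt_of_le hp.one_lt (Nat.le_of_dvd Nat.card_pos hpG)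
    refine ⟨fun M hMn => ?_⟩
    haveI := hMn
    by_contra h
    push Not at h
    obtain ⟨hMb, hMt⟩ := h
    by_cases hqM : 2 ∣ Nat.card M
    · let R : Sylow 2 M := default
      have hR : IsPGroup 2 ((R : Subgroup M).map M.subtype) := R.2.map _
      have h2R : 2 ∣ Nat.card ((R : Subgroup M).map M.subtype) := by
        rw [Subgroup.card_map_of_injective M.subtype_injective]
        exact R.dvd_card_of_dvd_card hqM
      set N := normalizer ((R : Subgroup M).map M.subtype : Set G)
      have hN : N ≠ ⊤ := fun e => by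
        haveI := normalizer_eq_top_iff.1 e
        have h0 := noNormalQ _ hR
        rw [h0, card_bot] at h2R
        exact absurd (Nat.dvd_one.1 h2R) (by decide)
      have h := hrG
      rw [card_eq_card_quotient_mul_card_subgroup M] at h
      rcases hr.dvd_mul.1 h with h | h
      · exact (L0 N hN (h2R.trans (card_dvd_of_le le_normalizer)) r hr
          (h.trans (frattini M 2 R))).elim hrp hrq
      · exact (L0 M hMt hqM r hr h).elim hrp hrq
    · have hMp : IsPGroup p M := isPGroup_of_unique_prime M fun s hs hsd => by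
        by_contra hsp
        exact noR M s hs hsp hqM hsd
      have hG := card_eq_card_quotient_mul_card_subgroup M
      have hq' : 2 ∣ Nat.card (G ⧸ M) := by
        have h := hqG
        rw [hG] at h
        exact (hq.dvd_mul.1 h).resolve_right hqM
      by_cases hpQ : p ∣ Nat.card (G ⧸ M)
      · have hr' : r ∣ Nat.card (G ⧸ M) := by
          have h := hrG
          rw [hG] at h
          exact (hr.dvd_mul.1 h).resolve_right fun h => hrp (primes_eq_of_isPGroup hMp hr h)
        have hlt : Nat.card (G ⧸ M) < n := by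
          rw [← hn, hG]
          refine lt_mul_of_one_lt_right Nat.card_pos ?_
          rcases Nat.lt_or_ge 1 (Nat.card M) with h | h
          · exact h
          · exact absurd (eq_bot_of_card_le M h) hMb
        refine (ih _ hlt (G ⧸ M) rfl hpQ hq' (fun K hK hKq hqK => ?_) ?_ r hr hr').elim hrp hrq
        · have hHK : Nat.card K ∣ Nat.card (K.comap (QuotientGroup.mk' M)) := by
            refine card_dvd_of_surjective
              ((QuotientGroup.mk' M).subgroupComap K) ?_
            exact MonoidHom.subgroupComap_surjective_of_surjective _ K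
              (QuotientGroup.mk'_surjective M)
          have hH : K.comap (QuotientGroup.mk' M) ≠ ⊤ := fun e => hK (by
            rw [← map_comap_eq_self_of_surjective (QuotientGroup.mk'_surjective M) K, e,
              map_top_of_surjective _ (QuotientGroup.mk'_surjective M)])
          by_contra hpK
          refine hKq (isPGroup_of_unique_prime K fun s hs hsd => ?_)
          exact (L0 _ hH (hqK.trans hHK) s hs (hsd.trans hHK)).resolve_left fun e => hpK (e ▸ hsd)
        · exact large_of_dvd hq (Or.inr ⟨hpeq, hab⟩) (card_quotient_dvd_card M)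
            (abelian_quotient M hMp)
      · have hgM : g ∈ M := by
          rw [← QuotientGroup.eq_one_iff]
          refine orderOf_eq_one_iff.1 (Nat.eq_one_of_dvd_coprimes
            (((Nat.Prime.coprime_iff_not_dvd hp).2 hpQ).pow_left k) ?_ (orderOf_dvd_natCard _))
          refine orderOf_dvd_of_pow_eq_one ?_
          rw [← QuotientGroup.mk_pow, hk, QuotientGroup.mk_one]
        refine hu0g (commute_of_conj_eq (mul_inv_eq_one.1 ?_))
        have h1 : g * u0 * g⁻¹ * u0⁻¹ ∈ M := by
          rw [show g * u0 * g⁻¹ * u0⁻¹ = g * (u0 * g⁻¹ * u0⁻¹) by group]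
          exact mul_mem hgM (hMn.conj_mem _ (inv_mem hgM) u0)
        have h2 : g * u0 * g⁻¹ * u0⁻¹ ∈ U :=
          mul_mem ((mem_normalizer_iff.1 hgN u0).1 hu0) (inv_mem hu0)
        exact disjoint_def.1 (IsPGroup.disjoint_of_coprime hMp hUp
          ((Nat.coprime_primes hp Nat.prime_two).2 hp2)) h1 h2
  refine Config.false_of_config (p := p) (G := G) ⟨hp, hp2, hsimple, ?_, hpG, hab, hcard, L0, ?_⟩
  · by_contra h
    push Not at h
    haveI : U.Normal := ⟨fun x hx y => by rw [(h y x).eq, mul_inv_cancel_right]; exact hx⟩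
    exact hU1 (noNormalQ U hUp)
  · intro Q
    obtain ⟨c, rfl⟩ := MulAction.exists_smul_eq G Q0 Q
    have hmem : ∀ x, x ∈ (c • Q0 : Sylow 2 G) ↔ c⁻¹ * x * c ∈ U := fun x => by
      rw [hUQ0]
      constructor
      · rintro ⟨b, hb, rfl⟩
        show c⁻¹ * (c * b * c⁻¹) * c ∈ (Q0 : Subgroup G)
        rwa [show c⁻¹ * (c * b * c⁻¹) * c = b by group]
      · intro hx
        exact ⟨_, hx, show c * (c⁻¹ * x * c) * c⁻¹ = x by group⟩
    refine ⟨c * g * c⁻¹, PEl.conj ⟨k, hk⟩ c, ?_, fun u hu hu1 v hv hv1 => ?_⟩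
    · refine mem_normalizer_iff.2 fun y => ?_
      show y ∈ (c • Q0 : Sylow 2 G) ↔ c * g * c⁻¹ * y * (c * g * c⁻¹)⁻¹ ∈ (c • Q0 : Sylow 2 G)
      rw [hmem, hmem, mem_normalizer_iff.1 hgN (c⁻¹ * y * c),
        show c⁻¹ * (c * g * c⁻¹ * y * (c * g * c⁻¹)⁻¹) * c = g * (c⁻¹ * y * c) * g⁻¹ by group]
    · have hne : ∀ x : G, x ≠ 1 → c⁻¹ * x * c ≠ 1 := fun x hx e => hx (by
        calc x = c * (c⁻¹ * x * c) * c⁻¹ := by group
          _ = 1 := by rw [e]; group)
      obtain ⟨i, hi⟩ := htransU _ ((hmem u).1 hu) (hne u hu1) _ ((hmem v).1 hv) (hne v hv1)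
      refine ⟨i, ?_⟩
      rw [conj_pow]
      calc _ = c * (g ^ i * (c⁻¹ * u * c) * (g ^ i)⁻¹) * c⁻¹ := by group
        _ = v := by rw [hi]; group

end Cfsg.Agent.MixedSubgroups
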