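import Cfsg.Agent.Lib.MixedSubgroups.Fused
import Cfsg.Agent.Lib.Coprime.Basic
import Cfsg.Agent.S4018

/-!
# Case II.1: some involution fixes a nontrivial `p`-element

The configuration becomes that of S4018, which is not simple.
-/

set_option autoImplicit false

namespace Cfsg.Agent.MixedSubgroups

open Subgroup
open scoped Pointwise

variable {p : ℕ} {G : Type*} [Group G] [Finite G]

/-- `H` divides `|P| · |Q|` in order when it is a `{p, 2}`-group. -/
theorem card_dvd_of_primes [Fact p.Prime] (hp2 : p ≠ 2) {H : Subgroup G}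
    (h : ∀ r : ℕ, r.Prime → r ∣ Nat.card H → r = p ∨ r = 2) (P : Sylow p G) (Q : Sylow 2 G) :
    Nat.card H ∣ Nat.card P * Nat.card Q := by
  haveI : Fact (Nat.Prime 2) := ⟨Nat.prime_two⟩
  rw [card_eq_sylow_mul hp2 h default default, P.card_eq_multiplicity, Q.card_eq_multiplicity,
    Sylow.card_eq_multiplicity, Sylow.card_eq_multiplicity]
  have hle := (Nat.factorization_le_iff_dvd Nat.card_pos.ne' Nat.card_pos.ne').2
    (card_subgroup_dvd_card H)
  exact mul_dvd_mul (pow_dvd_pow _ (hle p)) (pow_dvd_pow _ (hle 2))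

namespace Config

variable (hc : Config p G)
include hc

/-- No involution commutes with a nontrivial `p`-element. -/
theorem eq_one_of_commute_involution {v w : G} (hvv : v * v = 1) (hv1 : v ≠ 1) (hw : PEl p w)
    (hvw : Commute v w) : w = 1 := by
  by_contra hw1
  haveI : Fact p.Prime := ⟨hc.prime⟩
  haveI : Fact (Nat.Prime 2) := ⟨Nat.prime_two⟩
  obtain ⟨P, hwP⟩ := hc.exists_sylow_mem hw
  obtain ⟨Q, hvQ⟩ := exists_sylow_two_mem hvv
  set N := normalizer ((P : Subgroup G) : Set G) with hN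
  have hQN : (Q : Subgroup G) ≤ N := hc.sylow_two_le_normalizer hwP hw1 hvQ hv1 hvw
  obtain ⟨T, hQT, -, hT, -, hcardN, hfix⟩ := hc.exists_T P hQN Q.2
  obtain rfl : T = (Q : Subgroup G) := Q.is_maximal' hT hQT
  have hPab : ∀ x ∈ P, ∀ y ∈ P, Commute x y := fun x hx y hy => hc.sylow_comm P hx hy
  have hmem2 : ∀ {y : G}, y ∈ P → y ∈ Q → y = 1 := fun hy hy' =>
    hc.eq_one_of_pEl_sq (pEl_of_mem P.2 hy) (hc.mul_self_of_mem_two Q hy')
  -- at most one involution of `Q` has fixed points on `P`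
  have huniq : ∀ a ∈ Q, ∀ b ∈ Q, a ≠ 1 → b ≠ 1 → (∃ x ∈ P, x ≠ 1 ∧ Commute a x) →
      (∃ y ∈ P, y ≠ 1 ∧ Commute b y) → a = b := by
    rintro a ha b hb ha1 hb1 ⟨x, hx, hx1, hax⟩ ⟨y, hy, hy1, hby⟩
    obtain ⟨σ, hσ, hσN, htr⟩ := hc.trans Q
    obtain ⟨i, hi⟩ := htr a ha ha1 b hb hb1
    set τ := σ ^ i
    have hbb := hc.mul_self_of_mem_two Q hb
    have hbx : Commute b (τ * x * τ⁻¹) := hi ▸ (Commute.conj_iff τ).2 hax
    have hx' : τ * x * τ⁻¹ ∈ P :=
      hc.mem_sylow_of_commute_involution hy hy1 hbb hb1 hby ((pEl_of_mem P.2 hx).conj τ) hbx.symm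
    have hτN : τ ∈ N := mem_sylow_normalizer_of_conj fun z hz =>
      hc.mem_sylow_of_commute hx' (fun e => hx1 (conj_eq_one_iff.1 e)) hbb hb1 hbx
        ((pEl_of_mem P.2 hz).conj τ) ((Commute.conj_iff τ).2 (hPab z hz x hx))
    obtain ⟨k, hk⟩ := hσ.pow i
    have hτP : τ ∈ P := by
      have hsup : IsPGroup p ((P : Subgroup G) ⊔ zpowers τ : Subgroup G) :=
        P.2.to_sup_of_normal_left' (isPGroup_zpowers hk) (zpowers_le.2 hτN)
      have e := P.is_maximal' hsup le_sup_left
      show τ ∈ (P : Subgroup G)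
      rw [← e]
      exact mem_sup_right (mem_zpowers τ)
    have hτQ : τ ∈ normalizer ((Q : Subgroup G) : Set G) := pow_mem hσN i
    have hcomm : ∀ u ∈ Q, Commute u τ := by
      intro u hu
      have h1 : τ * u * τ⁻¹ * u⁻¹ = 1 := by
        refine hmem2 ?_ (mul_mem ((mem_normalizer_iff.1 hτQ u).1 hu) (inv_mem hu))
        rw [show τ * u * τ⁻¹ * u⁻¹ = τ * (u * τ⁻¹ * u⁻¹) by group]
        exact mul_mem hτP ((mem_normalizer_iff.1 (hQN hu) _).1 (inv_mem hτP))
      exact (commute_of_conj_eq (mul_inv_eq_one.1 h1)).symm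
    have h : τ = 1 := hc.eq_one_of_centralizes_sylow_two ⟨k, hk⟩ hcomm
    rw [h, one_mul, inv_one, mul_one] at hi
    exact hi
  have hinv : ∀ u ∈ Q, u ≠ 1 → u ≠ v → ∀ x ∈ P, u * x * u⁻¹ = x⁻¹ := by
    intro u hu hu1 huv x hx
    refine conj_eq_inv_of_fpf hPab (hc.mul_self_of_mem_two Q hu) (hQN hu) (fun y hy hy' => ?_) hx
    by_contra hy1
    exact huv (huniq u hu v hvQ hu1 hv1 ⟨y, hy, hy1, hy'⟩ ⟨w, hwP, hw1, hvw⟩)
  have hQ4 : ∃ u ∈ Q, u ≠ 1 ∧ u ≠ v := by
    classical
    by_contra h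
    push Not at h
    have hsub : ∀ x : (Q : Subgroup G), x = 1 ∨ x = ⟨v, hvQ⟩ := fun x => by
      rcases eq_or_ne (x : G) 1 with e | e
      · exact Or.inl (Subtype.ext e)
      · exact Or.inr (Subtype.ext (h x x.2 e))
    have h2 : Nat.card (Q : Subgroup G) ≤ 2 := by
      haveI := Fintype.ofFinite (Q : Subgroup G)
      rw [Nat.card_eq_fintype_card, ← Finset.card_univ]
      exact (Finset.card_le_card (t := {1, ⟨v, hvQ⟩}) fun x _ => by simpa using hsub x).trans
        Finset.card_le_two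
    have := hc.card_sylow_two Q
    have := hc.pos
    omega
  obtain ⟨u, huQ, hu1, huv⟩ := hQ4
  have huu := hc.mul_self_of_mem_two Q huQ
  have hprod : ∀ s ∈ Q, s ≠ 1 → s ≠ v → s = u ∨ s = u * v := by
    intro s hs hs1 hsv
    by_contra h
    push Not at h
    have hss := hc.mul_self_of_mem_two Q hs
    have hfixw : Commute (u * s) w := by
      refine commute_of_conj_eq ?_
      calc (u * s) * w * (u * s)⁻¹ = u * (s * w * s⁻¹) * u⁻¹ := by group
        _ = u * w⁻¹ * u⁻¹ := by rw [hinv s hs hs1 hsv w hwP]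
        _ = w := by rw [hinv u huQ hu1 huv _ (inv_mem hwP), inv_inv]
    have hus : u * s ≠ 1 := fun e => h.1 (by
      rw [← inv_eq_of_mul_eq_one_right e, inv_eq_of_mul_eq_one_right huu])
    have := huniq _ (mul_mem huQ hs) v hvQ hus hv1 ⟨w, hwP, hw1, hfixw⟩ ⟨w, hwP, hw1, hvw⟩
    refine h.2 ?_
    rw [← this, ← mul_assoc, huu, one_mul]
  have huvne : u * v ≠ 1 := fun e => huv (by
    rw [← inv_eq_of_mul_eq_one_right e, inv_eq_of_mul_eq_one_right huu])
  have huvv : u * v ≠ v := fun e => hu1 (mul_eq_right.1 e)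
  have hvP : ∀ x ∈ P, Commute v x := by
    intro x hx
    refine commute_of_conj_eq ?_
    calc v * x * v⁻¹ = u⁻¹ * ((u * v) * x * (u * v)⁻¹) * u := by group
      _ = u⁻¹ * x⁻¹ * u := by rw [hinv _ (mul_mem huQ hvQ) huvne huvv x hx]
      _ = u⁻¹ * (u * x * u⁻¹) * u := by rw [hinv u huQ hu1 huv x hx]
      _ = x := by group
  have hnotu : ∀ s ∈ Q, (∀ x ∈ P, Commute s x) → s = 1 ∨ s = v := by
    intro s hs hsP
    by_contra h
    push Not at h
    have h1 := hinv s hs h.1 h.2 w hwP
    rw [(hsP w hwP).eq, mul_inv_cancel_right] at h1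
    exact hw1 (hc.eq_one_of_pEl_sq hw (mul_eq_one_iff_eq_inv.2 h1))
  -- `p = 3`
  have hp3 : p = 3 := by
    classical
    haveI := Fintype.ofFinite (Q : Subgroup G)
    have h4 : Nat.card (Q : Subgroup G) ≤ 4 := by
      rw [Nat.card_eq_fintype_card, ← Finset.card_univ]
      refine (Finset.card_le_card (t := {1, ⟨v, hvQ⟩, ⟨u, huQ⟩, ⟨u * v, mul_mem huQ hvQ⟩})
        fun x _ => ?_).trans Finset.card_le_four
      simp only [Finset.mem_insert, Finset.mem_singleton]
      rcases eq_or_ne (x : G) 1 with e | e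
      · exact Or.inl (Subtype.ext e)
      rcases eq_or_ne (x : G) v with e' | e'
      · exact Or.inr (Or.inl (Subtype.ext e'))
      rcases hprod x x.2 e e' with e'' | e''
      · exact Or.inr (Or.inr (Or.inl (Subtype.ext e'')))
      · exact Or.inr (Or.inr (Or.inr (Subtype.ext e'')))
    have h' : Nat.card (Q : Subgroup G) = p + 1 := hc.card_sylow_two Q
    have := hc.pos
    omega
  have hQ4' : Nat.card (Q : Subgroup G) = 4 := by
    show Nat.card Q = 4
    rw [hc.card_sylow_two Q, hp3]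
  have hPN : (P : Subgroup G) ≤ N := le_normalizer
  have hNsup : N = (P : Subgroup G) ⊔ (Q : Subgroup G) := by
    refine le_antisymm ?_ (sup_le hPN hQN)
    exact le_of_coprime_parts hPN hQN (IsPGroup.coprime_card_of_ne p 2 hc.odd _ _ P.2 Q.2)
      hcardN.le le_sup_left le_sup_right
  set Z := centralizer ((P : Subgroup G) : Set G) with hZ
  have hvz : v ∈ Z := mem_centralizer_iff.2 fun x hx => (hvP x hx).symm.eq
  have hPZ : (P : Subgroup G) ≤ Z := fun y hy => mem_centralizer_iff.2 fun x hx => (hPab x hx y hy).eq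
  have hZmem : ∀ x ∈ Z, ∃ y ∈ P, ∃ e ∈ Q, (e = 1 ∨ e = v) ∧ x = y * e := by
    intro x hx
    have hxN : x ∈ N := centralizer_le_normalizer _ hx
    rw [hNsup, sup_comm, Coprime.mem_sup_iff_of_le_normalizer hQN] at hxN
    obtain ⟨e, he, y, hy, rfl⟩ := hxN
    have he' : e ∈ Z := by
      have := mul_mem hx (inv_mem (hPZ hy))
      rwa [mul_inv_cancel_right] at this
    have heP : ∀ z ∈ P, Commute e z := fun z hz => (mem_centralizer_iff.1 he' z hz).symm
    exact ⟨y, hy, e, he, hnotu e he heP, (heP y hy).eq⟩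
  have hZcard : Nat.card Z = 2 * Nat.card P := by
    have hle : zpowers v ≤ normalizer ((P : Subgroup G) : Set G) := zpowers_le.2 (hQN hvQ)
    have hzc : Nat.card (zpowers v) = 2 := by
      rw [Nat.card_zpowers, Invol.orderOf_two_of_mul_self hvv hv1]
    have e : Z = zpowers v ⊔ (P : Subgroup G) := by
      refine le_antisymm (fun x hx => ?_) (sup_le (zpowers_le.2 hvz) hPZ)
      obtain ⟨y, hy, e, -, he, rfl⟩ := hZmem x hx
      refine mul_mem (mem_sup_right hy) ?_
      rcases he with rfl | rfl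
      · exact one_mem _
      · exact mem_sup_left (mem_zpowers _)
    rw [e, Coprime.card_sup_of_le_normalizer hle, hzc]
    refine disjoint_iff.1 (IsPGroup.disjoint_of_coprime (p₁ := 2) (p₂ := p) ?_ P.2
      ((Nat.coprime_primes Nat.prime_two hc.prime).2 hc.odd.symm))
    exact IsPGroup.of_card (n := 1) (by rw [hzc, pow_one])
  have hTI : Cfsg.IsTISubset (Z : Set G) := by
    intro g hg x hx hgx
    by_contra hx1
    refine hg ?_
    have hgN : g ∈ N := by
      obtain ⟨y, hy, e, heQ, he, rfl⟩ := hZmem x hx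
      obtain ⟨y', hy', e', he'Q, he', hx'⟩ := hZmem _ hgx
      have sqr : ∀ {a b : G}, a ∈ P → b ∈ Q → (b = 1 ∨ b = v) → (a * b) * (a * b) = a * a := by
        intro a b ha hb hb'
        have hab : Commute b a := by
          rcases hb' with rfl | rfl
          · exact Commute.one_left a
          · exact hvP a ha
        calc (a * b) * (a * b) = a * (b * a) * b := by group
          _ = a * (a * b) * b := by rw [hab.eq]
          _ = a * a * (b * b) := by group
          _ = a * a := by rw [hc.mul_self_of_mem_two Q hb, mul_one]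
      by_cases hy1 : y = 1
      · have hev : e = v := by
          rcases he with h | h
          · exact absurd (by rw [hy1, h, one_mul]) hx1
          · exact h
        rw [hy1, hev, one_mul] at hx'
        have hy'1 : y' = 1 := by
          refine hc.eq_one_of_pEl_sq (pEl_of_mem P.2 hy') ?_
          rw [← sqr hy' he'Q he', ← hx']
          calc g * v * g⁻¹ * (g * v * g⁻¹) = g * (v * v) * g⁻¹ := by group
            _ = 1 := by rw [hvv]; group
        rw [hy'1, one_mul] at hx'
        have hgv : Commute g v := by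
          rcases he' with h | h
          · exact absurd (conj_eq_one_iff.1 (hx'.trans h)) hv1
          · exact commute_of_conj_eq (hx'.trans h)
        refine mem_sylow_normalizer_of_conj fun a ha => ?_
        refine hc.mem_sylow_of_commute_involution hwP hw1 hvv hv1 hvw ((pEl_of_mem P.2 ha).conj g) ?_
        have h := (Commute.conj_iff g).2 (hvP a ha).symm
        rwa [hgv.eq, mul_inv_cancel_right] at h
      · have hyy : y * y ∈ P := mul_mem hy hy
        have hyy1 : y * y ≠ 1 := fun h => hy1 (hc.eq_one_of_pEl_sq (pEl_of_mem P.2 hy) h)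
        have hgy : g * (y * y) * g⁻¹ ∈ P := by
          rw [← sqr hy heQ he]
          have e1 : g * (y * e * (y * e)) * g⁻¹ = (g * (y * e) * g⁻¹) * (g * (y * e) * g⁻¹) := by
            group
          rw [e1, hx', sqr hy' he'Q he']
          exact mul_mem hy' hy'
        refine mem_sylow_normalizer_of_conj fun a ha => ?_
        exact hc.mem_sylow_of_commute hgy (fun h => hyy1 (conj_eq_one_iff.1 h)) hvv hv1
          (hvP _ hgy) ((pEl_of_mem P.2 ha).conj g) ((Commute.conj_iff g).2 (hPab a ha _ hyy))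
    have hgZ : ∀ n ∈ N, ∀ z ∈ Z, n * z * n⁻¹ ∈ Z := by
      intro n hn z hz
      refine mem_centralizer_iff.2 fun a ha => ?_
      have ha' : n⁻¹ * a * n ∈ (P : Subgroup G) := by
        have := (mem_normalizer_iff.1 (inv_mem hn) a).1 ha
        rwa [inv_inv] at this
      have h := (Commute.conj_iff n).2 (mem_centralizer_iff.1 hz _ ha' : Commute (n⁻¹ * a * n) z)
      rw [show n * (n⁻¹ * a * n) * n⁻¹ = a by group] at h
      exact h.eq
    rw [mem_normalizer_iff]
    refine fun z => ⟨hgZ g hgN z, fun hz => ?_⟩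
    have h := hgZ g⁻¹ (inv_mem hgN) _ hz
    rwa [inv_inv, show g⁻¹ * (g * z * g⁻¹) * g = z by group] at h
  subst hp3
  refine Cfsg.Agent.S4018.result P (hc.abelian P) ?_ hZcard hTI (fun H hH h2 => ?_) hc.simple
  · rw [hcardN, hQ4', mul_comm]
  · have h := card_dvd_of_primes hc.odd (hc.primes H hH h2) P Q
    rwa [show Nat.card Q = 4 from hQ4', mul_comm] at h

end Config

end Cfsg.Agent.MixedSubgroups
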