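import Cfsg.Agent.Lib.MixedSubgroups.Basic
import Cfsg.Agent.Lib.Invol.Basic
import Cfsg.Agent.Lib.Involution.BaerSuzuki
import Cfsg.Agent.Lib.Transfer.Burnside
import Cfsg.Agent.Lib.Transfer.Frobenius
import Cfsg.Agent.Lib.Transfer.Residual

/-!
# The simple configuration behind S4017

`Config p G`: simple nonabelian group whose even proper subgroups are `{2, p}`-groups, with abelian
Sylow `p`-subgroups and Sylow 2-subgroups of order `p + 1` on which some `p`-element is transitive.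
-/

set_option autoImplicit false

namespace Cfsg.Agent.MixedSubgroups

open Subgroup
open scoped Pointwise

variable {p : ℕ} {G : Type*} [Group G] [Finite G]

/-- `x` is a `p`-element. -/
def PEl (p : ℕ) (x : G) : Prop := ∃ k : ℕ, x ^ (p ^ k) = 1

/-- The simple configuration. -/
structure Config (p : ℕ) (G : Type*) [Group G] [Finite G] : Prop where
  prime : p.Prime
  odd : p ≠ 2
  simple : IsSimpleGroup G
  noncomm : ∃ x y : G, ¬ Commute x y
  p_dvd : p ∣ Nat.card G
  abelian : ∀ P : Sylow p G, IsMulCommutative P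
  card_two : 2 ^ (Nat.card G).factorization 2 = p + 1
  primes : ∀ H : Subgroup G, H ≠ ⊤ → 2 ∣ Nat.card H →
    ∀ r : ℕ, r.Prime → r ∣ Nat.card H → r = p ∨ r = 2
  trans : ∀ Q : Sylow 2 G, ∃ σ : G, PEl p σ ∧ σ ∈ normalizer ((Q : Subgroup G) : Set G) ∧
    ∀ u ∈ Q, u ≠ 1 → ∀ v ∈ Q, v ≠ 1 → ∃ i : ℕ, σ ^ i * u * (σ ^ i)⁻¹ = v

omit [Finite G] in
theorem PEl.pow {x : G} (h : PEl p x) (i : ℕ) : PEl p (x ^ i) := by
  obtain ⟨k, hk⟩ := h
  exact ⟨k, by rw [← pow_mul, mul_comm, pow_mul, hk, one_pow]⟩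

omit [Finite G] in
theorem PEl.conj {x : G} (h : PEl p x) (g : G) : PEl p (g * x * g⁻¹) := by
  obtain ⟨k, hk⟩ := h
  exact ⟨k, by rw [conj_pow, hk]; group⟩

omit [Finite G] in
theorem pEl_of_mem {H : Subgroup G} (hH : IsPGroup p H) {x : G} (hx : x ∈ H) : PEl p x := by
  obtain ⟨k, hk⟩ := hH ⟨x, hx⟩
  exact ⟨k, by simpa using congrArg Subtype.val hk⟩

namespace Config

variable (hc : Config p G)
include hc

theorem pos : 2 < p := lt_of_le_of_ne hc.prime.two_le (Ne.symm hc.odd)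

theorem two_dvd : 2 ∣ Nat.card G := by
  by_contra h
  have := hc.card_two
  rw [Nat.factorization_eq_zero_of_not_dvd h] at this
  have := hc.pos
  omega

theorem card_sylow_two (Q : Sylow 2 G) : Nat.card Q = p + 1 := by
  haveI : Fact (Nat.Prime 2) := ⟨Nat.prime_two⟩
  rw [Q.card_eq_multiplicity]; exact hc.card_two

theorem normalizer_ne_top {H : Subgroup G} (hb : H ≠ ⊥) (ht : H ≠ ⊤) :
    normalizer (H : Set G) ≠ ⊤ := by
  intro h
  haveI := hc.simple
  rcases (normalizer_eq_top_iff.1 h).eq_bot_or_eq_top with h' | h'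
  · exact hb h'
  · exact ht h'

theorem zpowers_ne_top (x : G) : zpowers x ≠ ⊤ := by
  intro h
  obtain ⟨a, b, hab⟩ := hc.noncomm
  obtain ⟨i, rfl⟩ := mem_zpowers_iff.1 (h ▸ mem_top a : a ∈ zpowers x)
  obtain ⟨j, rfl⟩ := mem_zpowers_iff.1 (h ▸ mem_top b : b ∈ zpowers x)
  exact hab ((Commute.refl x).zpow_zpow i j)

theorem center_eq_bot : center G = ⊥ := by
  haveI := hc.simple
  refine (inferInstance : (center G).Normal).eq_bot_or_eq_top.resolve_right fun h => ?_
  obtain ⟨a, b, hab⟩ := hc.noncomm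
  exact hab ((mem_center_iff.1 (h ▸ mem_top b : b ∈ center G) a))

theorem centralizer_ne_top {x : G} (hx : x ≠ 1) : centralizer ({x} : Set G) ≠ ⊤ := by
  intro h
  refine hx (mem_bot.1 (hc.center_eq_bot ▸ mem_center_iff.2 fun g => ?_))
  exact (Invol.mem_centralizer_singleton_iff'.1 (h ▸ mem_top g)).eq

theorem exists_sylow_mem {x : G} (hx : PEl p x) : ∃ P : Sylow p G, x ∈ P := by
  haveI : Fact p.Prime := ⟨hc.prime⟩
  obtain ⟨k, hk⟩ := hx
  have hz : IsPGroup p (zpowers x) := isPGroup_zpowers hk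
  obtain ⟨P, hP⟩ := hz.exists_le_sylow
  exact ⟨P, hP (mem_zpowers x)⟩

theorem sylow_comm (P : Sylow p G) {x y : G} (hx : x ∈ P) (hy : y ∈ P) : Commute x y := by
  haveI := hc.abelian P
  exact congrArg Subtype.val
    (mul_comm' (⟨x, hx⟩ : (P : Subgroup G)) ⟨y, hy⟩)

theorem odd_of_isPGroup {H : Subgroup G} (h : IsPGroup p H) : Odd (Nat.card H) := by
  haveI : Fact p.Prime := ⟨hc.prime⟩
  obtain ⟨n, hn⟩ := IsPGroup.iff_card.1 h
  rw [hn]
  exact (hc.prime.odd_of_ne_two hc.odd).pow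

theorem eq_one_of_pEl_sq {x : G} (hx : PEl p x) (h : x * x = 1) : x = 1 := by
  obtain ⟨P, hP⟩ := hc.exists_sylow_mem hx
  exact eq_one_of_sq_of_odd (hc.odd_of_isPGroup P.2) hP h

theorem mul_self_of_mem_two (Q : Sylow 2 G) {u : G} (hu : u ∈ Q) : u * u = 1 := by
  haveI : Fact (Nat.Prime 2) := ⟨Nat.prime_two⟩
  rcases eq_or_ne u 1 with rfl | hu1
  · simp
  obtain ⟨t, htQ, ht⟩ := Invol.exists_involution_mem (H := (Q : Subgroup G))
    (even_iff_two_dvd.2 (Q.dvd_card_of_dvd_card hc.two_dvd))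
  obtain ⟨σ, -, -, h⟩ := hc.trans Q
  obtain ⟨i, hi⟩ := h t htQ (Invol.ne_one_of_orderOf_two ht) u hu hu1
  rw [← hi]
  calc _ = σ ^ i * (t * t) * (σ ^ i)⁻¹ := by group
    _ = 1 := by rw [Invol.mul_self_of_orderOf_two ht]; group

theorem mul_self_of_two_group {U : Subgroup G} (hU : IsPGroup 2 U) {u : G} (hu : u ∈ U) :
    u * u = 1 := by
  obtain ⟨Q, hQ⟩ := hU.exists_le_sylow
  exact hc.mul_self_of_mem_two Q (hQ hu)

theorem two_group_comm {U : Subgroup G} (hU : IsPGroup 2 U) {u v : G} (hu : u ∈ U) (hv : v ∈ U) :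
    Commute u v := by
  have h1 := hc.mul_self_of_two_group hU hu
  have h2 := hc.mul_self_of_two_group hU hv
  have h3 := hc.mul_self_of_two_group hU (mul_mem hu hv)
  calc u * v = (u * v)⁻¹ := (inv_eq_of_mul_eq_one_right h3).symm
    _ = v⁻¹ * u⁻¹ := mul_inv_rev u v
    _ = v * u := by rw [inv_eq_of_mul_eq_one_right h1, inv_eq_of_mul_eq_one_right h2]

theorem two_group_card_le {U : Subgroup G} (hU : IsPGroup 2 U) : Nat.card U ≤ p + 1 := by
  obtain ⟨Q, hQ⟩ := hU.exists_le_sylow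
  exact (Nat.le_of_dvd Nat.card_pos (card_dvd_of_le hQ)).trans (hc.card_sylow_two Q).le

omit [Finite G] hc in
theorem exists_sylow_two_mem {v : G} (hv : v * v = 1) : ∃ Q : Sylow 2 G, v ∈ Q := by
  haveI : Fact (Nat.Prime 2) := ⟨Nat.prime_two⟩
  have hz : IsPGroup 2 (zpowers v) := isPGroup_zpowers (k := 1) (by rw [pow_one, pow_two, hv])
  obtain ⟨Q, hQ⟩ := hz.exists_le_sylow
  exact ⟨Q, hQ (mem_zpowers v)⟩

omit [Finite G] hc in
theorem dvd_two_of_mem {H : Subgroup G} {v : G} (hv : v * v = 1) (hv1 : v ≠ 1) (hvH : v ∈ H) :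
    2 ∣ Nat.card H := by
  rw [← Invol.orderOf_two_of_mul_self hv hv1]
  exact Subgroup.orderOf_dvd_natCard _ hvH

theorem exists_ne_one (Q : Sylow 2 G) : ∃ v ∈ Q, v ≠ (1 : G) := by
  have : (Q : Subgroup G) ≠ ⊥ := by
    intro h
    have := hc.card_sylow_two Q
    rw [show Nat.card Q = 1 from by rw [h, card_bot]] at this
    have := hc.pos
    omega
  obtain ⟨v, hv, hv1⟩ := (Q : Subgroup G).bot_or_exists_ne_one.resolve_left this
  exact ⟨v, hv, hv1⟩

/-- A `{2, p}`-subgroup containing `Q` and a `p`-element centralising `Q` centralises it. -/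
theorem le_centralizer {H : Subgroup G} (hH : H ≠ ⊤) {Q : Sylow 2 G} (hQH : (Q : Subgroup G) ≤ H)
    {z : G} (hz : PEl p z) (hzH : z ∈ H) (hQz : ∀ u ∈ Q, Commute u z) :
    H ≤ centralizer ({z} : Set G) := by
  haveI : Fact p.Prime := ⟨hc.prime⟩
  haveI : Fact (Nat.Prime 2) := ⟨Nat.prime_two⟩
  obtain ⟨k, hk⟩ := hz
  have hz' : IsPGroup p (zpowers (⟨z, hzH⟩ : H)) := isPGroup_zpowers (k := k) (Subtype.ext hk)
  obtain ⟨P1, hP1⟩ := hz'.exists_le_sylow
  obtain ⟨P, hP⟩ := (P1.2.map H.subtype).exists_le_sylow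
  have h2 : 2 ∣ Nat.card H :=
    ((Q.dvd_card_of_dvd_card hc.two_dvd)).trans (card_dvd_of_le hQH)
  have hcard := card_eq_sylow_mul (G := H) hc.odd (hc.primes H hH h2) P1 (Q.subtype hQH)
  have e1 : Nat.card ((P1 : Subgroup H).map H.subtype) = Nat.card P1 :=
    Subgroup.card_map_of_injective H.subtype_injective
  have e2 : Nat.card (Q.subtype hQH) = Nat.card Q :=
    Nat.card_congr (subgroupOfEquivOfLe hQH).toEquiv
  refine le_of_coprime_parts (A := (P1 : Subgroup H).map H.subtype) (B := (Q : Subgroup G))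
    ?_ hQH ?_ ?_ ?_ ?_
  · rintro _ ⟨y, -, rfl⟩; exact y.2
  · exact IsPGroup.coprime_card_of_ne p 2 hc.odd _ _ (P1.2.map H.subtype) Q.2
  · rw [e1, hcard, e2]
  · intro y hy
    refine Invol.mem_centralizer_singleton_iff'.2 (hc.sylow_comm P (hP hy) (hP ?_))
    exact ⟨⟨z, hzH⟩, hP1 (mem_zpowers _), rfl⟩
  · exact fun u hu => Invol.mem_centralizer_singleton_iff'.2 (hQz u hu)

theorem sylow_ne_bot (P : Sylow p G) : (P : Subgroup G) ≠ ⊥ := by
  haveI : Fact p.Prime := ⟨hc.prime⟩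
  exact P.ne_bot_of_dvd_card hc.p_dvd

theorem sylow_ne_top (P : Sylow p G) : (P : Subgroup G) ≠ ⊤ := by
  intro h
  obtain ⟨a, b, hab⟩ := hc.noncomm
  exact hab (hc.sylow_comm P (h ▸ mem_top a : a ∈ (P : Subgroup G)) (h ▸ mem_top b : b ∈ (P : Subgroup G)))

/-- Some involution inverts an element of order `p`. -/
theorem exists_inverted : ∃ t x : G, t * t = 1 ∧ t ≠ 1 ∧ orderOf x = p ∧ t * x * t⁻¹ = x⁻¹ := by
  haveI : Fact (Nat.Prime 2) := ⟨Nat.prime_two⟩
  haveI := hc.simple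
  obtain ⟨t, ht⟩ := exists_prime_orderOf_dvd_card' 2 hc.two_dvd
  have ht1 := Invol.ne_one_of_orderOf_two ht
  have htt := Invol.mul_self_of_orderOf_two ht
  have : ∃ g : G, ¬ IsPGroup 2 (closure ({t, g * t * g⁻¹} : Set G)) := by
    by_contra h
    push Not at h
    have h2 := Involution.baer_suzuki t h
    rcases (inferInstance : (normalClosure ({t} : Set G)).Normal).eq_bot_or_eq_top with e | e
    · exact ht1 (mem_bot.1 (e ▸ subset_normalClosure rfl))
    · haveI : Fact p.Prime := ⟨hc.prime⟩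
      obtain ⟨x, hx⟩ := exists_prime_orderOf_dvd_card' p hc.p_dvd
      obtain ⟨k, hk⟩ := h2 ⟨x, e ▸ mem_top x⟩
      have : orderOf x ∣ 2 ^ k := orderOf_dvd_of_pow_eq_one (by simpa using congrArg Subtype.val hk)
      rw [hx] at this
      exact hc.odd ((Nat.prime_dvd_prime_iff_eq hc.prime Nat.prime_two).1
        (hc.prime.dvd_of_dvd_pow this))
  obtain ⟨g, hg⟩ := this
  set s := g * t * g⁻¹ with hs
  have hss : s * s = 1 := by
    rw [hs]
    calc _ = g * (t * t) * g⁻¹ := by group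
      _ = 1 := by rw [htt]; group
  set d := s * t with hd
  have hinv : t * d * t⁻¹ = d⁻¹ := Invol.conj_mul_eq_inv hss htt
  have hpow : ∀ i : ℕ, t * d ^ i * t⁻¹ = (d ^ i)⁻¹ := fun i => by
    rw [← conj_pow, hinv, inv_pow]
  have hnot : ¬ ∀ r : ℕ, r.Prime → r ∣ orderOf d → r = 2 := by
    intro h
    refine hg ?_
    have hD : IsPGroup 2 (zpowers d) := isPGroup_of_unique_prime _ fun r hr hrd =>
      h r hr (by rwa [Nat.card_zpowers] at hrd)
    have hT : IsPGroup 2 (zpowers t) := IsPGroup.of_card (n := 1) (by rw [Nat.card_zpowers, ht, pow_one])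
    have hle : zpowers t ≤ normalizer (zpowers d : Set G) := by
      rw [zpowers_le]
      exact mem_normalizer_zpowers_of_inverts hinv
    refine (hD.to_sup_of_normal_left' hT hle).to_le ((closure_le _).2 ?_)
    rintro y (hy | hy)
    · rw [hy]; exact mem_sup_right (mem_zpowers t)
    · rw [Set.mem_singleton_iff.1 hy]
      have : s = d * t := by rw [hd, mul_assoc, htt, mul_one]
      rw [this]
      exact mul_mem_sup (mem_zpowers d) (mem_zpowers t)
  push Not at hnot
  obtain ⟨r, hr, hrd, hr2⟩ := hnot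
  set x := d ^ (orderOf d / r) with hxdef
  have hx : orderOf x = r := orderOf_pow_orderOf_div (orderOf_pos d).ne' hrd
  have hx1 : x ≠ 1 := fun e => hr.ne_one (by rw [← hx, e, orderOf_one])
  have htN : t ∈ normalizer (zpowers x : Set G) := mem_normalizer_zpowers_of_inverts (hpow _)
  have hrN : r ∣ Nat.card (normalizer (zpowers x : Set G)) := by
    rw [← hx]
    exact Subgroup.orderOf_dvd_natCard _ (le_normalizer (mem_zpowers x))
  rcases hc.primes _ (hc.normalizer_ne_top (zpowers_ne_bot.2 hx1) (hc.zpowers_ne_top x))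
    (dvd_two_of_mem htt ht1 htN) r hr hrN with e | e
  · exact ⟨t, x, htt, ht1, hx.trans e, hpow _⟩
  · exact absurd e hr2

theorem two_dvd_normalizer (P : Sylow p G) :
    2 ∣ Nat.card (normalizer ((P : Subgroup G) : Set G)) := by
  haveI : Fact p.Prime := ⟨hc.prime⟩
  obtain ⟨t, x, htt, ht1, hx, htx⟩ := hc.exists_inverted
  obtain ⟨P1, hxP⟩ := hc.exists_sylow_mem (x := x) ⟨1, by rw [pow_one, ← hx, pow_orderOf_eq_one]⟩
  set C := centralizer ({x} : Set G)
  have hP1 : (P1 : Subgroup G) ≤ C :=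
    fun y hy => Invol.mem_centralizer_singleton_iff'.2 (hc.sylow_comm P1 hy hxP)
  have hP2 : ((t • P1 : Sylow p G) : Subgroup G) ≤ C := by
    rintro _ ⟨y, hy, rfl⟩
    refine Invol.mem_centralizer_singleton_iff'.2 ?_
    have h := (hc.sylow_comm P1 hy hxP).inv_right
    show Commute (t * y * t⁻¹) x
    have e : x = t * x⁻¹ * t⁻¹ := by rw [← inv_inv x]; nth_rw 1 [← htx]; group
    rw [e]
    exact (Commute.conj_iff t).2 h
  obtain ⟨c, hc'⟩ := MulAction.exists_smul_eq C ((t • P1).subtype hP2) (P1.subtype hP1)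
  rw [Sylow.smul_subtype] at hc'
  have hc'' := Sylow.subtype_injective hc'
  change (c : G) • (t • P1) = P1 at hc''
  rw [← mul_smul, Sylow.smul_eq_iff_mem_normalizer] at hc''
  set n := (c : G) * t
  have hcx : Commute (c : G) x := Invol.mem_centralizer_singleton_iff'.1 c.2
  have hnx : n * x * n⁻¹ = x⁻¹ := by
    calc n * x * n⁻¹ = (c : G) * (t * x * t⁻¹) * (c : G)⁻¹ := by simp only [n]; group
      _ = x⁻¹ := by rw [htx, hcx.inv_right.eq, mul_inv_cancel_right]
  have heven : 2 ∣ orderOf n := by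
    by_contra hodd
    have hn2 : Commute (n ^ 2) x := by
      refine commute_of_conj_eq ?_
      calc n ^ 2 * x * (n ^ 2)⁻¹ = n * (n * x * n⁻¹) * n⁻¹ := by rw [pow_two]; group
        _ = n * x⁻¹ * n⁻¹ := by rw [hnx]
        _ = (n * x * n⁻¹)⁻¹ := by group
        _ = x := by rw [hnx, inv_inv]
    have hn : Commute n x := commute_pow_of_coprime (pow_orderOf_eq_one n)
      ((Nat.Prime.coprime_iff_not_dvd Nat.prime_two).2 hodd) hn2
    rw [hn.eq, mul_inv_cancel_right] at hnx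
    have h1 : x * x = 1 := mul_eq_one_iff_eq_inv.2 hnx
    have h2 := hc.eq_one_of_pEl_sq (x := x) ⟨1, by rw [pow_one, ← hx, pow_orderOf_eq_one]⟩ h1
    rw [h2, orderOf_one] at hx
    exact hc.prime.ne_one hx.symm
  have h1 : 2 ∣ Nat.card (normalizer ((P1 : Subgroup G) : Set G)) :=
    heven.trans (Subgroup.orderOf_dvd_natCard _ hc'')
  have e : ∀ R : Sylow p G,
      Nat.card (normalizer ((R : Subgroup G) : Set G)) * Nat.card (Sylow p G) = Nat.card G := by
    intro R
    rw [Sylow.card_eq_index_normalizer R]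
    exact Subgroup.card_mul_index _
  have h2 := (e P).trans (e P1).symm
  rwa [Nat.eq_of_mul_eq_mul_right Nat.card_pos h2]

theorem normalizer_sylow_ne_top (P : Sylow p G) : normalizer ((P : Subgroup G) : Set G) ≠ ⊤ :=
  hc.normalizer_ne_top (hc.sylow_ne_bot P) (hc.sylow_ne_top P)

/-- A Sylow 2-subgroup `T` of `N(P)` through a given 2-subgroup; it fixes no point of `P`. -/
theorem exists_T (P : Sylow p G) {U : Subgroup G}
    (hUN : U ≤ normalizer ((P : Subgroup G) : Set G)) (hU : IsPGroup 2 U) :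
    ∃ T : Subgroup G, U ≤ T ∧ T ≤ normalizer ((P : Subgroup G) : Set G) ∧ IsPGroup 2 T ∧ T ≠ ⊥ ∧
      Nat.card (normalizer ((P : Subgroup G) : Set G)) = Nat.card P * Nat.card T ∧
      ∀ x ∈ P, (∀ t ∈ T, Commute t x) → x = 1 := by
  haveI : Fact p.Prime := ⟨hc.prime⟩
  haveI : Fact (Nat.Prime 2) := ⟨Nat.prime_two⟩
  haveI := hc.simple
  set N := normalizer ((P : Subgroup G) : Set G)
  have hU' : IsPGroup 2 (U.subgroupOf N) := hU.of_equiv (subgroupOfEquivOfLe hUN).symm
  obtain ⟨T0, hT0⟩ := hU'.exists_le_sylow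
  set T := (T0 : Subgroup N).map N.subtype
  have hTcard : Nat.card T = Nat.card T0 := Subgroup.card_map_of_injective N.subtype_injective
  have hPN : (P : Subgroup G) ≤ N := le_normalizer
  have hcard : Nat.card N = Nat.card P * Nat.card T := by
    rw [card_eq_sylow_mul hc.odd (hc.primes N (hc.normalizer_sylow_ne_top P)
      (hc.two_dvd_normalizer P)) (P.subtype hPN) T0, hTcard]
    congr 1
    exact Nat.card_congr (subgroupOfEquivOfLe hPN).toEquiv
  have hTN : T ≤ N := map_subtype_le _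
  refine ⟨T, ?_, hTN, T0.2.map _, ?_, hcard, ?_⟩
  · intro u hu
    exact ⟨⟨u, hUN hu⟩, hT0 (mem_subgroupOf.2 hu), rfl⟩
  · intro hT
    have h2 := hc.two_dvd_normalizer P
    rw [hcard, hT, card_bot, mul_one] at h2
    exact Nat.not_even_iff_odd.2 (hc.odd_of_isPGroup P.2) (even_iff_two_dvd.2 h2)
  · intro x hx hTx
    have hN : N ≤ centralizer ({x} : Set G) :=
      le_of_coprime_parts (A := (P : Subgroup G)) (B := T) hPN hTN
        (IsPGroup.coprime_card_of_ne p 2 hc.odd _ _ P.2 (T0.2.map _)) hcard.le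
        (fun y hy => Invol.mem_centralizer_singleton_iff'.2 (hc.sylow_comm P hy hx))
        (fun t ht => Invol.mem_centralizer_singleton_iff'.2 (hTx t ht))
    have hxC : x ∈ (P : Subgroup G) ⊓ centralizer (N : Set G) :=
      ⟨hx, mem_centralizer_iff.2 fun n hn => (Invol.mem_centralizer_singleton_iff'.1 (hN hn)).eq⟩
    obtain ⟨f, hf⟩ := Transfer.exists_surjective_inf_centralizer_normalizer P (hc.abelian P)
    rcases (inferInstance : f.ker.Normal).eq_bot_or_eq_top with h | h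
    · exfalso
      obtain ⟨a, b, hab⟩ := hc.noncomm
      have hinj : Function.Injective f := (MonoidHom.ker_eq_bot_iff f).1 h
      refine hab (hinj ?_)
      rw [map_mul, map_mul]
      exact Subtype.ext (hc.sylow_comm P (f a).2.1 (f b).2.1).eq
    · obtain ⟨a, ha⟩ := hf ⟨x, hxC⟩
      have h1 : f a = 1 := MonoidHom.mem_ker.1 (h ▸ mem_top a)
      rw [h1] at ha
      exact (congrArg Subtype.val ha).symm

end Config

end Cfsg.Agent.MixedSubgroups
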